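import Mathlib

/-!
# Coordinates for an elementary abelian two-group with a transitive cyclic automorphism group

Such a group is the additive group of `GF(2ⁿ)` with the automorphism acting as a multiplication;
biadditive maps commuting with the multiplication have the form `(x, y) ↦ √(w x y)`.
-/

set_option autoImplicit false
set_option linter.style.haveILetI false

namespace CfsgLib.InvChar.FixedLine

/-- An elementary abelian group of order `2 ^ n` with a transitive automorphism. -/
theorem exists_coord {V : Type*} [AddCommGroup V] [Finite V] {n : ℕ} (hn : n ≠ 0)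
    (hcard : Nat.card V = 2 ^ n) (T : V →+ V)
    (htr : ∀ x y : V, x ≠ 0 → y ≠ 0 → ∃ k : ℕ, T^[k] x = y) :
    ∃ (c : V ≃+ GaloisField 2 n) (ζ : GaloisField 2 n),
      (∀ v, c (T v) = ζ * c v) ∧ ∀ t : GaloisField 2 n, t ≠ 0 → ∃ k : ℕ, ζ ^ k = t := by
  classical
  haveI : Nontrivial V := Finite.one_lt_card_iff_nontrivial.1 (hcard ▸ Nat.one_lt_two_pow hn)
  obtain ⟨e, he⟩ := exists_ne (0 : V)
  let T' : AddMonoid.End V := T
  set A : Subring (AddMonoid.End V) := Subring.closure {T'} with hA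
  have hTA : T' ∈ A := Subring.subset_closure rfl
  have hpow : ∀ k : ℕ, (T' ^ k : AddMonoid.End V) e = T^[k] e := fun k => by
    rw [AddMonoid.End.coe_pow]; rfl
  letI : CommRing ↥A := Subring.closureCommRingOfComm (by
    rintro a ha b hb
    rw [Set.mem_singleton_iff.1 ha, Set.mem_singleton_iff.1 hb])
  have hsur : ∀ v : V, ∃ r : ↥A, (r : AddMonoid.End V) e = v := by
    intro v
    by_cases hv : v = 0
    · exact ⟨0, hv ▸ rfl⟩
    · obtain ⟨k, hk⟩ := htr e v he hv
      exact ⟨⟨T' ^ k, pow_mem hTA k⟩, (hpow k).trans hk⟩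
  have hcomm : ∀ r s : ↥A, ∀ v, (r : AddMonoid.End V) ((s : AddMonoid.End V) v) =
      (s : AddMonoid.End V) ((r : AddMonoid.End V) v) := fun r s v =>
    congrArg (fun f : ↥A => (f : AddMonoid.End V) v) (mul_comm r s)
  have hzero : ∀ r : ↥A, (r : AddMonoid.End V) e = 0 → r = 0 := by
    intro r hr
    refine Subtype.ext (DFunLike.ext _ _ fun v => ?_)
    obtain ⟨s, rfl⟩ := hsur v
    rw [hcomm, hr, map_zero]
    rfl
  let ev : ↥A →+ V :=
    { toFun := fun r => (r : AddMonoid.End V) e, map_zero' := rfl, map_add' := fun _ _ => rfl }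
  have hev : Function.Bijective ev :=
    ⟨(injective_iff_map_eq_zero ev).2 hzero, hsur⟩
  haveI : Finite ↥A := Finite.of_injective _ hev.1
  haveI : Nontrivial ↥A := hev.2.nontrivial
  haveI : NoZeroDivisors ↥A := ⟨fun {r s} hrs => by
    by_contra h
    push Not at h
    have hs : ev s ≠ 0 := fun h' => h.2 (hzero s h')
    refine h.1 (Subtype.ext (DFunLike.ext _ _ fun v => ?_))
    show (r : AddMonoid.End V) v = 0
    by_cases hv : v = 0
    · rw [hv, map_zero]
    obtain ⟨k, hk⟩ := htr _ v hs hv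
    obtain ⟨u, hu⟩ : ∃ u : ↥A, (u : AddMonoid.End V) (ev s) = v :=
      ⟨⟨T' ^ k, pow_mem hTA k⟩, by
        show (T' ^ k : AddMonoid.End V) (ev s) = v
        rw [AddMonoid.End.coe_pow]; exact hk⟩
    rw [← hu, hcomm, show (r : AddMonoid.End V) (ev s) = ev (r * s) from rfl, hrs, map_zero,
      map_zero]⟩
  haveI : IsDomain ↥A := NoZeroDivisors.to_isDomain _
  letI : Field ↥A := (Finite.isDomain_to_isField ↥A).toField
  haveI : Fintype ↥A := Fintype.ofFinite _
  haveI : Fintype (GaloisField 2 n) := Fintype.ofFinite _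
  have hcA : Fintype.card ↥A = Fintype.card (GaloisField 2 n) := by
    rw [← Nat.card_eq_fintype_card, ← Nat.card_eq_fintype_card, GaloisField.card 2 n hn,
      Nat.card_eq_of_bijective _ hev, hcard]
  let φ : ↥A ≃+* GaloisField 2 n := FiniteField.ringEquivOfCardEq hcA
  let E : ↥A ≃+ V := AddEquiv.ofBijective ev hev
  refine ⟨E.symm.trans φ.toAddEquiv, φ ⟨T', hTA⟩, fun v => ?_, fun t ht => ?_⟩
  · show φ (E.symm (T v)) = φ _ * φ (E.symm v)
    rw [← map_mul]
    congr 1
    apply E.injective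
    rw [E.apply_symm_apply]
    show T v = T' ((E.symm v : AddMonoid.End V) e)
    exact congrArg T (E.apply_symm_apply v).symm
  · have h0 : (φ.symm t : AddMonoid.End V) e ≠ 0 := fun h' =>
      ht (φ.symm.injective ((hzero _ h').trans (map_zero φ.symm).symm))
    obtain ⟨k, hk⟩ := htr e _ he h0
    refine ⟨k, ?_⟩
    rw [← map_pow, ← φ.apply_symm_apply t]
    congr 1
    apply hev.1
    show (((⟨T', hTA⟩ : ↥A) ^ k : ↥A) : AddMonoid.End V) e = (φ.symm t : AddMonoid.End V) e
    rw [SubmonoidClass.coe_pow, hpow, hk]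

variable {K : Type*} [Field K]

/-- A biadditive map homogeneous of degree two. -/
theorem homogeneous_two (h2 : (2 : K) = 0) (hsq : ∀ t : K, ∃ u, u * u = t) (h : K → K → K)
    (hl : ∀ x x' y, h (x + x') y = h x y + h x' y) (hr : ∀ x y y', h x (y + y') = h x y + h x y')
    (hh : ∀ t x y, h (t * x) (t * y) = t * t * h x y) : ∀ x y, h x y = h 1 1 * x * y := by
  set w := h 1 1
  have key : ∀ x, h 1 (x * x) = w * (x * x) := by
    intro x
    have e1 := hl 1 x (x + x * x)
    have e2 := hh (1 + x) 1 x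
    rw [mul_one, show (1 + x) * x = x + x * x by ring] at e2
    have e3 := hh x 1 (1 + x)
    rw [mul_one, show x * (1 + x) = x + x * x by ring, hr 1 1 x] at e3
    rw [e2, e3, hr 1 x (x * x)] at e1
    linear_combination -e1 + (x * h 1 x - x * x * w) * h2
  have h1 : ∀ y, h 1 y = w * y := fun y => by
    obtain ⟨u, rfl⟩ := hsq y
    exact key u
  intro x y
  by_cases hx : x = 0
  · have e := hl 0 0 y
    rw [add_zero] at e
    rw [hx, show h 0 y = 0 by linear_combination -e]
    ring
  · have e := hh x 1 (y / x)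
    rw [mul_one, mul_div_cancel₀ _ hx, h1] at e
    rw [e]
    field_simp

variable {A B : Type*} [Mul A] [Mul B]

/-- A biadditive map factoring through two surjective coordinates. -/
theorem pairing (h2 : (2 : K) = 0) (hsq : ∀ t : K, ∃ u, u * u = t) {ζ : K}
    (hgen : ∀ t : K, t ≠ 0 → ∃ k : ℕ, ζ ^ k = t)
    (pa : A → K) (pb : B → K) (σ : A → A) (τ : B → B)
    (haadd : ∀ a a', pa (a * a') = pa a + pa a') (hbadd : ∀ b b', pb (b * b') = pb b + pb b')
    (has : Function.Surjective pa) (hbs : Function.Surjective pb)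
    (haρ : ∀ a, pa (σ a) = ζ * pa a) (hbρ : ∀ b, pb (τ b) = ζ * pb b)
    (P : A → B → K) (hl : ∀ a a' b, P (a * a') b = P a b + P a' b)
    (hr : ∀ a b b', P a (b * b') = P a b + P a b')
    (hρ : ∀ a b, P (σ a) (τ b) = ζ * P a b)
    (hka : ∀ a b, pa a = 0 → P a b = 0) (hkb : ∀ a b, pb b = 0 → P a b = 0) :
    ∃ w, ∀ a b, P a b ^ 2 = w * pa a * pb b := by
  have hd : ∀ t u : K, t + u = 0 → t = u := fun t u e => by linear_combination e - u * h2
  have wda : ∀ a a' b, pa a = pa a' → P a b = P a' b := fun a a' b e => hd _ _ (by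
    rw [← hl]; exact hka _ _ (by rw [haadd, e]; linear_combination pa a' * h2))
  have wdb : ∀ a b b', pb b = pb b' → P a b = P a b' := fun a b b' e => hd _ _ (by
    rw [← hr]; exact hkb _ _ (by rw [hbadd, e]; linear_combination pb b' * h2))
  let sa := Function.surjInv has
  let sb := Function.surjInv hbs
  have hsa : ∀ t, pa (sa t) = t := Function.surjInv_eq has
  have hsb : ∀ t, pb (sb t) = t := Function.surjInv_eq hbs
  let h : K → K → K := fun x y => P (sa x) (sb y) ^ 2
  have hP : ∀ a b, P a b ^ 2 = h (pa a) (pb b) := fun a b => by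
    show _ = P (sa (pa a)) (sb (pb b)) ^ 2
    rw [wda (sa (pa a)) a _ (hsa _), wdb a (sb (pb b)) b (hsb _)]
  have hadd : ∀ x y : K, (x + y) ^ 2 = x ^ 2 + y ^ 2 := fun x y => by
    linear_combination (x * y) * h2
  have hstep : ∀ x y, h (ζ * x) (ζ * y) = ζ * ζ * h x y := fun x y => by
    have e := hP (σ (sa x)) (τ (sb y))
    rw [haρ, hbρ, hρ, hsa, hsb] at e
    rw [← e]
    show (ζ * P (sa x) (sb y)) ^ 2 = ζ * ζ * P (sa x) (sb y) ^ 2
    ring
  refine ⟨h 1 1, fun a b => (hP a b).trans (homogeneous_two h2 hsq h ?_ ?_ ?_ _ _)⟩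
  · intro x x' y
    have e := hP (sa x * sa x') (sb y)
    rw [hl, haadd, hsa, hsa, hsb, hadd] at e
    exact e.symm
  · intro x y y'
    have e := hP (sa x) (sb y * sb y')
    rw [hr, hbadd, hsa, hsb, hsb, hadd] at e
    exact e.symm
  · intro t x y
    by_cases ht : t = 0
    · show P _ _ ^ 2 = _
      rw [hka _ _ (by rw [hsa, ht, zero_mul]), ht]
      ring
    obtain ⟨k, rfl⟩ := hgen t ht
    induction k with
    | zero => simp
    | succ k ih =>
      rw [pow_succ', mul_assoc, mul_assoc, hstep]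
      by_cases hk : ζ ^ k = 0
      · have h0 : h (ζ ^ k * x) (ζ ^ k * y) = 0 := by
          show P _ _ ^ 2 = 0
          rw [hka _ _ (by rw [hsa, hk, zero_mul])]
          ring
        rw [h0, hk]
        ring
      · rw [ih hk]
        ring

/-- An alternating such map vanishes. -/
theorem pairing_alternating (h2 : (2 : K) = 0) (hsq : ∀ t : K, ∃ u, u * u = t) {ζ : K}
    (hgen : ∀ t : K, t ≠ 0 → ∃ k : ℕ, ζ ^ k = t)
    (pa : A → K) (σ : A → A) (haadd : ∀ a a', pa (a * a') = pa a + pa a')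
    (has : Function.Surjective pa) (haρ : ∀ a, pa (σ a) = ζ * pa a)
    (P : A → A → K) (hl : ∀ a a' b, P (a * a') b = P a b + P a' b)
    (hr : ∀ a b b', P a (b * b') = P a b + P a b')
    (hρ : ∀ a b, P (σ a) (σ b) = ζ * P a b) (halt : ∀ a, P a a = 0)
    (hka : ∀ a b, pa a = 0 → P a b = 0) : ∀ a b, P a b = 0 := by
  have hsymm : ∀ a b, P a b = P b a := fun a b => by
    have e := halt (a * b)
    rw [hl, hr, hr, halt a, halt b, zero_add, add_zero] at e
    linear_combination e - P b a * h2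
  obtain ⟨w, hw⟩ := pairing h2 hsq hgen pa pa σ σ haadd haadd has has haρ haρ P hl hr hρ hka
    fun a b hb => (hsymm a b).trans (hka b a hb)
  obtain ⟨a, ha⟩ := has 1
  have hw0 : w = 0 := by
    have e := hw a a
    rw [halt, ha] at e
    linear_combination -e
  intro x y
  have e := hw x y
  rw [hw0, zero_mul, zero_mul] at e
  exact pow_eq_zero_iff two_ne_zero |>.1 e

/-- An additive map commuting with the multiplication is linear. -/
theorem additive_linear {ζ : K} (hgen : ∀ t : K, t ≠ 0 → ∃ k : ℕ, ζ ^ k = t)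
    (f : K → K) (h0 : f 0 = 0) (hf : ∀ t, f (ζ * t) = ζ * f t) : ∀ t, f t = f 1 * t := by
  intro t
  by_cases ht : t = 0
  · rw [ht, h0, mul_zero]
  obtain ⟨k, rfl⟩ := hgen t ht
  have e : ∀ k : ℕ, f (ζ ^ k) = f 1 * ζ ^ k := by
    intro k
    induction k with
    | zero => simp
    | succ k ih => rw [pow_succ', hf, ih]; ring
  exact e k

/-- A non-zero invariant set contains every non-zero element. -/
theorem invariant_mem {ζ : K} (hgen : ∀ t : K, t ≠ 0 → ∃ k : ℕ, ζ ^ k = t) {S : Set K}
    (hS : ∀ t ∈ S, ζ * t ∈ S) {s : K} (hs : s ∈ S) (hs0 : s ≠ 0) {t : K} (ht : t ≠ 0) : t ∈ S := by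
  obtain ⟨k, hk⟩ := hgen (t / s) (div_ne_zero ht hs0)
  have e : ∀ k : ℕ, ζ ^ k * s ∈ S := by
    intro k
    induction k with
    | zero => simpa using hs
    | succ k ih => rw [pow_succ', mul_assoc]; exact hS _ ih
  have := e k
  rwa [hk, div_mul_cancel₀ _ hs0] at this

end CfsgLib.InvChar.FixedLine
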