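import Mathlib

/-!
# Groups determined by a squaring map

A group that is an extension of an elementary abelian central group `W` by an elementary abelian
group `V` is determined by its squaring map `V → W`.
-/

set_option autoImplicit false
set_option linter.style.haveILetI false

namespace CfsgLib.InvChar.FixedLine

/-- Coordinates realising a squaring map. -/
def HasSquareMap (Q : Type*) [Group Q] {V W : Type*} [AddGroup V] [AddGroup W] (N : V → W) : Prop :=
  ∃ (θ : Q → V) (ψ : Q → W),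
    (∀ x y, θ (x * y) = θ x + θ y) ∧ (∀ v, ∃ x, θ x = v) ∧
    (∀ x, θ x = 0 → ∀ y, x * y = y * x) ∧
    (∀ x y, θ x = 0 → θ y = 0 → ψ (x * y) = ψ x + ψ y) ∧
    (∀ x, θ x = 0 → ψ x = 0 → x = 1) ∧ (∀ w, ∃ x, θ x = 0 ∧ ψ x = w) ∧
    ∀ x, θ (x * x) = 0 ∧ ψ (x * x) = N (θ x)

/-- Two groups with the same squaring map are isomorphic. -/
theorem iso_of_squareMap {A B : Type*} [Group A] [Group B] [Finite A] [Finite B] {V W : Type*}
    [AddCommGroup V] [AddCommGroup W] {N : V → W} (hA : HasSquareMap A N) (hB : HasSquareMap B N) :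
    Nonempty (A ≃* B) := by
  classical
  obtain ⟨θ, ψ, hθ, hsurA, hcA, hψ, hinjA, hWA, hsqA⟩ := hA
  obtain ⟨θ', ψ', hθ', hsur', hcB, hψ', hinjB, hWB, hsqB⟩ := hB
  have h1 : θ 1 = 0 := by
    have := hθ 1 1; rw [one_mul] at this; simpa using this
  have h1' : θ' 1 = 0 := by
    have := hθ' 1 1; rw [one_mul] at this; simpa using this
  have hinv : ∀ x, θ x⁻¹ = -θ x := fun x => by
    have := hθ x x⁻¹; rw [mul_inv_cancel, h1] at this
    exact eq_neg_of_add_eq_zero_right this.symm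
  have hinv' : ∀ x, θ' x⁻¹ = -θ' x := fun x => by
    have := hθ' x x⁻¹; rw [mul_inv_cancel, h1'] at this
    exact eq_neg_of_add_eq_zero_right this.symm
  have hψ1 : ψ 1 = 0 := by
    have := hψ 1 1 h1 h1; rw [one_mul] at this; simpa using this
  have hψ1' : ψ' 1 = 0 := by
    have := hψ' 1 1 h1' h1'; rw [one_mul] at this; simpa using this
  let P : Subgroup (A × B) :=
    { carrier := {p | θ p.1 = θ' p.2}
      one_mem' := by
        show θ 1 = θ' 1
        rw [h1, h1']
      mul_mem' := fun {a b} ha hb => by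
        show θ (a.1 * b.1) = θ' (a.2 * b.2)
        rw [hθ, hθ', show θ a.1 = θ' a.2 from ha, show θ b.1 = θ' b.2 from hb]
      inv_mem' := fun {a} ha => by
        show θ a.1⁻¹ = θ' a.2⁻¹
        rw [hinv, hinv', show θ a.1 = θ' a.2 from ha] }
  let Δ : Subgroup (A × B) :=
    { carrier := {p | θ p.1 = 0 ∧ θ' p.2 = 0 ∧ ψ p.1 = ψ' p.2}
      one_mem' := ⟨h1, h1', hψ1.trans hψ1'.symm⟩
      mul_mem' := fun {a b} ha hb => by
        obtain ⟨a1, a2, a3⟩ := ha
        obtain ⟨b1, b2, b3⟩ := hb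
        exact ⟨(hθ _ _).trans (by rw [a1, b1, add_zero]), (hθ' _ _).trans (by rw [a2, b2, add_zero]),
          (hψ _ _ a1 b1).trans (by rw [a3, b3]; exact (hψ' _ _ a2 b2).symm)⟩
      inv_mem' := fun {a} ha => by
        obtain ⟨a1, a2, a3⟩ := ha
        have b1 : θ a.1⁻¹ = 0 := by rw [hinv, a1, neg_zero]
        have b2 : θ' a.2⁻¹ = 0 := by rw [hinv', a2, neg_zero]
        refine ⟨b1, b2, ?_⟩
        have e := hψ _ _ a1 b1
        have e' := hψ' _ _ a2 b2
        rw [mul_inv_cancel, hψ1] at e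
        rw [mul_inv_cancel, hψ1'] at e'
        show ψ a.1⁻¹ = ψ' a.2⁻¹
        rw [← neg_eq_of_add_eq_zero_right e.symm, ← neg_eq_of_add_eq_zero_right e'.symm, a3] }
  have hsq : ∀ p ∈ P, p * p ∈ Δ := fun p hp =>
    ⟨(hsqA p.1).1, (hsqB p.2).1, ((hsqA p.1).2.trans (congrArg N hp)).trans (hsqB p.2).2.symm⟩
  have hΔc : ∀ d ∈ Δ, ∀ p : A × B, d * p = p * d := fun d hd p =>
    Prod.ext (hcA _ hd.1 _) (hcB _ hd.2.1 _)
  -- a maximal subgroup avoiding the second factor
  obtain ⟨K, hK, hmax⟩ := (Set.toFinite {K : Subgroup (A × B) | Δ ≤ K ∧ K ≤ P ∧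
    ∀ y : B, ((1 : A), y) ∈ K → y = 1}).exists_maximalFor id _ ⟨Δ, le_rfl, fun p hp =>
      (show θ p.1 = θ' p.2 by rw [hp.1, hp.2.1]), fun y hy => hinjB y hy.2.1
        (hy.2.2.symm.trans hψ1)⟩
  obtain ⟨hΔK, hKP, hKinj⟩ := hK
  have hfun : ∀ {a : A} {b b' : B}, (a, b) ∈ K → (a, b') ∈ K → b = b' := fun {a b b'} h h' => by
    have := hKinj (b⁻¹ * b') (by
      have h'' := K.mul_mem (K.inv_mem h) h'
      rwa [Prod.inv_mk, Prod.mk_mul_mk, inv_mul_cancel] at h'')
    exact inv_mul_eq_one.1 this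
  have htot : ∀ a : A, ∃ b : B, (a, b) ∈ K := by
    intro a
    by_contra hno
    push Not at hno
    obtain ⟨b, hb⟩ := hsur' (θ a)
    set p : A × B := (a, b) with hp
    have hpP : p ∈ P := hb.symm
    have hpK : p * p ∈ K := hΔK (hsq p hpP)
    have hnorm : ∀ k ∈ K, p * k * p⁻¹ ∈ K := by
      intro k hk
      have e : p * k * p⁻¹ = (p * k) * (p * k) * (k⁻¹ * (p⁻¹ * p⁻¹)) := by group
      rw [e]
      refine K.mul_mem (hΔK (hsq _ (P.mul_mem hpP (hKP hk)))) (K.mul_mem (K.inv_mem hk) ?_)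
      rw [← mul_inv_rev]
      exact K.inv_mem hpK
    let M : Subgroup (A × B) :=
      { carrier := {x | x ∈ K ∨ x * p⁻¹ ∈ K}
        one_mem' := Or.inl K.one_mem
        mul_mem' := by
          rintro x y (hx | hx) (hy | hy)
          · exact Or.inl (K.mul_mem hx hy)
          · exact Or.inr (by rw [mul_assoc]; exact K.mul_mem hx hy)
          · refine Or.inr ?_
            have e : x * y * p⁻¹ = x * p⁻¹ * (p * y * p⁻¹) := by group
            rw [e]; exact K.mul_mem hx (hnorm y hy)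
          · refine Or.inl ?_
            have e : x * y = x * p⁻¹ * (p * (y * p⁻¹) * p⁻¹) * (p * p) := by group
            rw [e]; exact K.mul_mem (K.mul_mem hx (hnorm _ hy)) hpK
        inv_mem' := by
          rintro x (hx | hx)
          · exact Or.inl (K.inv_mem hx)
          · refine Or.inr ?_
            have e : x⁻¹ * p⁻¹ = p⁻¹ * (x * p⁻¹)⁻¹ * p⁻¹ := by group
            have e' : p⁻¹ * (x * p⁻¹)⁻¹ * p⁻¹ = (p * p)⁻¹ * (p * (x * p⁻¹)⁻¹ * p⁻¹) := by group
            rw [e, e']; exact K.mul_mem (K.inv_mem hpK) (hnorm _ (K.inv_mem hx)) }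
    have hle : K ≤ M := fun x hx => Or.inl hx
    have hMmem : Δ ≤ M ∧ M ≤ P ∧ ∀ y : B, ((1 : A), y) ∈ M → y = 1 := by
      refine ⟨hΔK.trans hle, ?_, ?_⟩
      · rintro x (hx | hx)
        · exact hKP hx
        · have := P.mul_mem (hKP hx) hpP
          rwa [inv_mul_cancel_right] at this
      · rintro y (hy | hy)
        · exact hKinj y hy
        · exfalso
          rw [hp, Prod.inv_mk, Prod.mk_mul_mk, one_mul] at hy
          have := K.inv_mem hy
          rw [Prod.inv_mk, inv_inv] at this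
          exact hno _ this
    have hMK : M ≤ K := hmax hMmem hle
    exact hno b (hMK (Or.inr (by rw [← hp, mul_inv_cancel]; exact K.one_mem)))
  let f : A →* B :=
    { toFun := fun a => (htot a).choose
      map_one' := hfun (htot 1).choose_spec K.one_mem
      map_mul' := fun x y => hfun (htot (x * y)).choose_spec
        (K.mul_mem (htot x).choose_spec (htot y).choose_spec) }
  have hf : ∀ a, (a, f a) ∈ K := fun a => (htot a).choose_spec
  refine ⟨MulEquiv.ofBijective f ⟨(injective_iff_map_eq_one f).2 fun a ha => ?_, fun b => ?_⟩⟩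
  · have h := hf a
    rw [ha] at h
    have hθa : θ a = 0 := (hKP h).trans h1'
    obtain ⟨z, hz0, hz⟩ := hWB (ψ a)
    have hzK : (a, z) ∈ K := hΔK ⟨hθa, hz0, hz.symm⟩
    have hz1 := hfun hzK h
    exact hinjA a hθa (by rw [← hz, hz1, hψ1'])
  · obtain ⟨a, ha⟩ := hsurA (θ' b)
    have hker : θ' ((f a)⁻¹ * b) = 0 := by
      rw [hθ', hinv', show θ' (f a) = θ a from (hKP (hf a)).symm, ha, neg_add_cancel]
    obtain ⟨z, hz0, hz⟩ := hWA (ψ' ((f a)⁻¹ * b))
    have hzK : (z, (f a)⁻¹ * b) ∈ K := hΔK ⟨hz0, hker, hz⟩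
    exact ⟨a * z, by rw [map_mul, hfun (hf z) hzK, mul_inv_cancel_left]⟩

end CfsgLib.InvChar.FixedLine
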