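import Mathlib
import Cfsg.Agent.Lib.InvChar.FixedLine.Coord

/-!
# Two-groups with an involutory automorphism whose fixed points form one transitive line

The set-up: `α ² = 1` commutes with `ρ`, the fixed points of `α` form an elementary abelian group of
order `2 ^ n` on which `ρ` is transitive away from the identity. Then that group is central, and the
second layer `{x | x⁻¹ αx fixed}` is abelian; both carry coordinates in `GF(2ⁿ)`.
-/

set_option autoImplicit false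
set_option linter.unusedSectionVars false
set_option linter.style.haveILetI false

namespace CfsgLib.InvChar.FixedLine

universe u

/-- The hypotheses. -/
structure Ctx (Q : Type u) [Group Q] (n : ℕ) where
  /-- the involution -/
  α : MulAut Q
  /-- the transitive automorphism -/
  ρ : MulAut Q
  two_le : 2 ≤ n
  pg : IsPGroup 2 Q
  aa : ∀ x, α (α x) = x
  comm : ∀ x, α (ρ x) = ρ (α x)
  sq : ∀ c, α c = c → c * c = 1
  card : Nat.card {x : Q // α x = x} = 2 ^ n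
  trans : ∀ x y, α x = x → α y = y → x ≠ 1 → y ≠ 1 → ∃ k : ℕ, (ρ ^ k) x = y

theorem two_eq_zero (n : ℕ) : (2 : GaloisField 2 n) = 0 := CharTwo.two_eq_zero

theorem exists_sqrt (n : ℕ) (t : GaloisField 2 n) : ∃ u, u * u = t := by
  haveI : Fintype (GaloisField 2 n) := Fintype.ofFinite _
  obtain ⟨u, hu⟩ := (Finite.injective_iff_surjective.1 (frobenius_inj (GaloisField 2 n) 2)) t
  exact ⟨u, by rw [← hu, frobenius_def, pow_two]⟩

/-- The commutator `x y x⁻¹ y⁻¹`. -/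
def k {Q : Type u} [Group Q] (x y : Q) : Q := x * y * x⁻¹ * y⁻¹

theorem k_eq_one {Q : Type u} [Group Q] {x y : Q} : k x y = 1 ↔ x * y = y * x := by
  show x * y * x⁻¹ * y⁻¹ = 1 ↔ _
  rw [mul_inv_eq_one, mul_inv_eq_iff_eq_mul]

theorem k_map {Q : Type u} [Group Q] {R : Type*} [Group R] {F : Type*} [FunLike F Q R]
    [MonoidHomClass F Q R] (f : F) (x y : Q) : f (k x y) = k (f x) (f y) := by
  simp only [k, map_mul, map_inv]

theorem k_mul_left {Q : Type u} [Group Q] (x y z : Q) : k (x * y) z = x * k y z * x⁻¹ * k x z := by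
  simp only [k]; group

theorem k_mul_right {Q : Type u} [Group Q] (x y z : Q) : k x (y * z) = k x y * (y * k x z * y⁻¹) := by
  simp only [k]; group

namespace Ctx

variable {Q : Type u} [Group Q] [Finite Q] {n : ℕ} (S : Ctx Q n)

/-- The fixed points. -/
def C : Subgroup Q where
  carrier := {x | S.α x = x}
  one_mem' := map_one S.α
  mul_mem' := fun {a b} ha hb => by
    show S.α (a * b) = a * b
    rw [map_mul, show S.α a = a from ha, show S.α b = b from hb]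
  inv_mem' := fun {a} ha => by
    show S.α a⁻¹ = a⁻¹
    rw [map_inv, show S.α a = a from ha]

theorem mem_C {x : Q} : x ∈ S.C ↔ S.α x = x := Iff.rfl

theorem comm_pow (j : ℕ) (x : Q) : S.α ((S.ρ ^ j) x) = (S.ρ ^ j) (S.α x) := by
  induction j generalizing x with
  | zero => rfl
  | succ j ih => rw [pow_succ, MulAut.mul_apply, MulAut.mul_apply, ih, S.comm]

theorem rho_mem_C {x : Q} (hx : x ∈ S.C) : S.ρ x ∈ S.C := by
  rw [mem_C] at hx ⊢
  rw [S.comm, hx]

theorem C_inv {c : Q} (hc : c ∈ S.C) : c⁻¹ = c := inv_eq_of_mul_eq_one_right (S.sq c hc)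

theorem card_C : Nat.card ↥S.C = 2 ^ n := S.card

/-- A non-trivial invariant subgroup contains the fixed points. -/
theorem C_le_of_invariant {H : Subgroup Q} (hH : H ≠ ⊥) (hα : ∀ x ∈ H, S.α x ∈ H)
    (hρ : ∀ x ∈ H, S.ρ x ∈ H) : S.C ≤ H := by
  classical
  haveI : Fintype ↥H := Fintype.ofFinite _
  let f : Equiv.Perm ↥H :=
    { toFun := fun x => ⟨S.α x, hα _ x.2⟩
      invFun := fun x => ⟨S.α x, hα _ x.2⟩
      left_inv := fun x => Subtype.ext (S.aa _)
      right_inv := fun x => Subtype.ext (S.aa _) }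
  haveI : Fact (Nat.Prime 2) := ⟨Nat.prime_two⟩
  have hf : f ^ 2 ^ 1 = 1 := Equiv.ext fun x => Subtype.ext (S.aa _)
  have hev : 2 ∣ Fintype.card ↥H := by
    obtain ⟨j, hj⟩ := IsPGroup.iff_card.1 (S.pg.to_subgroup H)
    rw [← Nat.card_eq_fintype_card, hj]
    cases j with
    | zero =>
      exfalso
      exact hH (Subgroup.card_eq_one.1 (by simpa using hj))
    | succ j => exact dvd_pow_self 2 (Nat.succ_ne_zero j)
  obtain ⟨w, hw, hw1⟩ := Equiv.Perm.exists_fixed_point_of_prime' hev hf (a := (1 : ↥H))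
    (Subtype.ext (map_one S.α))
  obtain ⟨z, hzH, hzC, hz1⟩ : ∃ z ∈ H, z ∈ S.C ∧ z ≠ 1 :=
    ⟨w, w.2, congrArg Subtype.val hw, fun h => hw1 (Subtype.ext h)⟩
  intro c hc
  by_cases hc1 : c = 1
  · exact hc1 ▸ H.one_mem
  obtain ⟨j, rfl⟩ := S.trans z c hzC hc hz1 hc1
  clear hc hc1
  induction j with
  | zero => exact hzH
  | succ j ih => rw [pow_succ', MulAut.mul_apply]; exact hρ _ ih

theorem C_ne_bot : S.C ≠ ⊥ := fun h => by
  have e := S.card_C
  rw [h, Subgroup.card_bot] at e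
  exact absurd e (Nat.one_lt_two_pow (by have := S.two_le; omega)).ne

theorem C_le_center : S.C ≤ Subgroup.center Q := by
  haveI : Nontrivial Q := by
    obtain ⟨x, -, hx⟩ := (Subgroup.ne_bot_iff_exists_ne_one.1 S.C_ne_bot)
      |> fun ⟨x, hx⟩ => (⟨x.1, x.2, fun e => hx (Subtype.ext e)⟩ : ∃ x, x ∈ S.C ∧ x ≠ 1)
    exact ⟨⟨x, 1, hx⟩⟩
  refine S.C_le_of_invariant ?_ (fun x hx => ?_) fun x hx => ?_
  · haveI : Nontrivial ↥(Subgroup.center Q) := S.pg.center_nontrivial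
    exact (Subgroup.nontrivial_iff_ne_bot _).1 inferInstance
  · exact (Subgroup.characteristic_iff_map_le.1 inferInstance S.α) (Subgroup.mem_map_of_mem _ hx)
  · exact (Subgroup.characteristic_iff_map_le.1 inferInstance S.ρ) (Subgroup.mem_map_of_mem _ hx)

theorem central {c : Q} (hc : c ∈ S.C) (x : Q) : x * c = c * x :=
  Subgroup.mem_center_iff.1 (S.C_le_center hc) x

theorem conj_C {c : Q} (hc : c ∈ S.C) (x : Q) : x * c * x⁻¹ = c := by
  rw [S.central hc, mul_inv_cancel_right]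

theorem exists_coord : ∃ (c : Q → GaloisField 2 n) (ζ : GaloisField 2 n),
    (∀ x ∈ S.C, ∀ y ∈ S.C, c (x * y) = c x + c y) ∧ (∀ x ∈ S.C, c x = 0 → x = 1) ∧
    (∀ t, ∃ x ∈ S.C, c x = t) ∧ (∀ x ∈ S.C, c (S.ρ x) = ζ * c x) ∧
    ∀ t : GaloisField 2 n, t ≠ 0 → ∃ j : ℕ, ζ ^ j = t := by
  classical
  letI : CommGroup ↥S.C :=
    { (inferInstance : Group ↥S.C) with mul_comm := fun a b => Subtype.ext (S.central b.2 a) }
  let T : Additive ↥S.C →+ Additive ↥S.C := MonoidHom.toAdditive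
    { toFun := fun x => ⟨S.ρ x, S.rho_mem_C x.2⟩
      map_one' := Subtype.ext (map_one S.ρ)
      map_mul' := fun x y => Subtype.ext (map_mul S.ρ x.1 y.1) }
  have hT : ∀ (j : ℕ) (x : Additive ↥S.C), ((T^[j] x).toMul : Q) = (S.ρ ^ j) (x.toMul : Q) := by
    intro j
    induction j with
    | zero => intro x; rfl
    | succ j ih =>
      intro x
      rw [Function.iterate_succ_apply', pow_succ', MulAut.mul_apply, ← ih x]
      rfl
  obtain ⟨e, ζ, he, hζ⟩ := CfsgLib.InvChar.FixedLine.exists_coord (V := Additive ↥S.C)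
    (n := n) (by have := S.two_le; omega)
    ((Nat.card_congr Additive.toMul).trans S.card_C) T fun x y hx hy => by
      obtain ⟨j, hj⟩ := S.trans (x.toMul : Q) (y.toMul : Q) x.toMul.2 y.toMul.2
        (fun h => hx (Additive.toMul.injective (Subtype.ext h)))
        (fun h => hy (Additive.toMul.injective (Subtype.ext h)))
      exact ⟨j, Additive.toMul.injective (Subtype.ext ((hT j x).trans hj))⟩
  refine ⟨fun x => if hx : x ∈ S.C then e (Additive.ofMul ⟨x, hx⟩) else 0, ζ,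
    fun x hx y hy => ?_, fun x hx h => ?_, fun t => ?_, fun x hx => ?_, hζ⟩
  · simp only [dif_pos hx, dif_pos hy, dif_pos (S.C.mul_mem hx hy), ← map_add, ← ofMul_mul]
    rfl
  · simp only [dif_pos hx] at h
    have := e.injective (h.trans (map_zero e).symm)
    exact congrArg (fun z : Additive ↥S.C => (z.toMul : Q)) this
  · refine ⟨((e.symm t).toMul : Q), (e.symm t).toMul.2, ?_⟩
    simp only [dif_pos (e.symm t).toMul.2]
    exact e.apply_symm_apply t
  · simp only [dif_pos hx, dif_pos (S.rho_mem_C hx)]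
    exact he (Additive.ofMul ⟨x, hx⟩)

/-- The coordinate on the fixed points. -/
noncomputable def c : Q → GaloisField 2 n := S.exists_coord.choose

/-- The multiplier of `ρ`. -/
noncomputable def ζ : GaloisField 2 n := S.exists_coord.choose_spec.choose

theorem c_spec : (∀ x ∈ S.C, ∀ y ∈ S.C, S.c (x * y) = S.c x + S.c y) ∧
    (∀ x ∈ S.C, S.c x = 0 → x = 1) ∧
    (∀ t, ∃ x ∈ S.C, S.c x = t) ∧ (∀ x ∈ S.C, S.c (S.ρ x) = S.ζ * S.c x) ∧
    ∀ t : GaloisField 2 n, t ≠ 0 → ∃ j : ℕ, S.ζ ^ j = t := S.exists_coord.choose_spec.choose_spec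

theorem c_mul {x y : Q} (hx : x ∈ S.C) (hy : y ∈ S.C) : S.c (x * y) = S.c x + S.c y :=
  S.c_spec.1 x hx y hy

theorem c_one : S.c 1 = 0 := by
  have := S.c_mul S.C.one_mem S.C.one_mem
  rw [one_mul] at this
  linear_combination -this

theorem c_eq_zero {x : Q} (hx : x ∈ S.C) (h : S.c x = 0) : x = 1 := S.c_spec.2.1 x hx h

theorem c_surj (t : GaloisField 2 n) : ∃ x ∈ S.C, S.c x = t := S.c_spec.2.2.1 t

theorem c_rho {x : Q} (hx : x ∈ S.C) : S.c (S.ρ x) = S.ζ * S.c x := S.c_spec.2.2.2.1 x hx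

theorem zeta_gen : ∀ t : GaloisField 2 n, t ≠ 0 → ∃ j : ℕ, S.ζ ^ j = t := S.c_spec.2.2.2.2

theorem exists_ne_zero_one (hn : 2 ≤ n) : ∃ t : GaloisField 2 n, t ≠ 0 ∧ t ≠ 1 := by
  classical
  by_contra h
  push Not at h
  haveI : Fintype (GaloisField 2 n) := Fintype.ofFinite _
  have hle : Fintype.card (GaloisField 2 n) ≤ ({0, 1} : Finset (GaloisField 2 n)).card :=
    Finset.card_le_card (fun t _ => by
      simp only [Finset.mem_insert, Finset.mem_singleton]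
      exact or_iff_not_imp_left.2 (h t))
  rw [← Nat.card_eq_fintype_card, GaloisField.card 2 n (by omega)] at hle
  have h2 : ({0, 1} : Finset (GaloisField 2 n)).card ≤ 2 := Finset.card_le_two
  have h4 : 2 ^ 2 ≤ 2 ^ n := Nat.pow_le_pow_right (by norm_num) hn
  omega

/-- The displacement `x⁻¹ αx`. -/
def e (x : Q) : Q := x⁻¹ * S.α x

theorem alpha_eq (x : Q) : S.α x = x * S.e x := by simp [e]

theorem e_mul (x y : Q) : S.e (x * y) = y⁻¹ * S.e x * y * S.e y := by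
  simp only [e, map_mul]; group

theorem e_rho (x : Q) : S.e (S.ρ x) = S.ρ (S.e x) := by
  simp only [e, map_mul, map_inv, S.comm]

theorem e_eq_one {x : Q} : S.e x = 1 ↔ x ∈ S.C := by
  rw [e, inv_mul_eq_one, mem_C]
  exact eq_comm

theorem e_of_C {x : Q} (hx : x ∈ S.C) : S.e x = 1 := S.e_eq_one.2 hx

theorem alpha_e (x : Q) : S.α (S.e x) = (S.e x)⁻¹ := by
  simp only [e, map_mul, map_inv, S.aa]; group

theorem e_e (x : Q) : S.e (S.e x) = (S.e x * S.e x)⁻¹ := by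
  rw [e, S.alpha_e, mul_inv_rev]

theorem e_mul_of_C {x y : Q} (hx : S.e x ∈ S.C) : S.e (x * y) = S.e x * S.e y := by
  rw [e_mul, mul_assoc y⁻¹, ← S.central hx y, inv_mul_cancel_left]

/-- The second layer. -/
def D : Subgroup Q where
  carrier := {x | S.e x ∈ S.C}
  one_mem' := by
    show S.e 1 ∈ S.C
    rw [S.e_of_C S.C.one_mem]
    exact S.C.one_mem
  mul_mem' := fun {a b} ha hb => by
    show S.e (a * b) ∈ S.C
    rw [S.e_mul_of_C ha]
    exact S.C.mul_mem ha hb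
  inv_mem' := fun {a} ha => by
    show S.e a⁻¹ ∈ S.C
    have e1 := S.e_mul_of_C (y := a⁻¹) ha
    rw [mul_inv_cancel, S.e_of_C S.C.one_mem] at e1
    rw [← inv_eq_of_mul_eq_one_right e1.symm]
    exact S.C.inv_mem ha

theorem mem_D {x : Q} : x ∈ S.D ↔ S.e x ∈ S.C := Iff.rfl

theorem C_le_D : S.C ≤ S.D := fun x hx => by
  rw [mem_D, S.e_of_C hx]; exact S.C.one_mem

theorem rho_mem_D {x : Q} (hx : x ∈ S.D) : S.ρ x ∈ S.D := by
  rw [mem_D] at hx ⊢
  rw [e_rho]
  exact S.rho_mem_C hx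

theorem alpha_mem_D {x : Q} (hx : x ∈ S.D) : S.α x ∈ S.D := by
  rw [S.alpha_eq]
  exact S.D.mul_mem hx (S.C_le_D hx)

theorem sq_mem_C {x : Q} (hx : x ∈ S.D) : x * x ∈ S.C := by
  rw [← S.e_eq_one, S.e_mul_of_C hx]
  exact S.sq _ hx

/-- The coordinate on the second layer. -/
noncomputable def pD (x : Q) : GaloisField 2 n := S.c (S.e x)

theorem pD_mul {x y : Q} (hx : x ∈ S.D) (hy : y ∈ S.D) : S.pD (x * y) = S.pD x + S.pD y := by
  rw [pD, S.e_mul_of_C hx, S.c_mul hx hy]; rfl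

theorem pD_eq_zero {x : Q} (hx : x ∈ S.D) (h : S.pD x = 0) : x ∈ S.C :=
  S.e_eq_one.1 (S.c_eq_zero hx h)

theorem pD_of_C {x : Q} (hx : x ∈ S.C) : S.pD x = 0 := by rw [pD, S.e_of_C hx, c_one]

theorem pD_rho {x : Q} (hx : x ∈ S.D) : S.pD (S.ρ x) = S.ζ * S.pD x := by
  rw [pD, e_rho, S.c_rho hx]; rfl

theorem mem_C_of_conj {x y : Q} (hy : y ∈ S.C) : x * y * x⁻¹ ∈ S.C := by rwa [S.conj_C hy]

/-- Commutators with values among the fixed points are biadditive. -/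
theorem ck_mul_left {x y z : Q} (hy : k y z ∈ S.C) (hx : k x z ∈ S.C) :
    S.c (k (x * y) z) = S.c (k x z) + S.c (k y z) := by
  rw [k_mul_left, S.conj_C hy, S.c_mul hy hx, add_comm]

theorem ck_mul_right {x y z : Q} (hy : k x y ∈ S.C) (hz : k x z ∈ S.C) :
    S.c (k x (y * z)) = S.c (k x y) + S.c (k x z) := by
  rw [k_mul_right, S.conj_C hz, S.c_mul hy hz]

theorem D_commute {x y : Q} (hx : x ∈ S.D) (hy : y ∈ S.D) : x * y = y * x := by
  have hk : ∀ a b : ↥S.D, k (a : Q) b ∈ S.C := fun a b => by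
    refine S.pD_eq_zero ?_ ?_
    · exact S.D.mul_mem (S.D.mul_mem (S.D.mul_mem a.2 b.2) (S.D.inv_mem a.2)) (S.D.inv_mem b.2)
    · have hinv : ∀ {z : Q}, z ∈ S.D → S.pD z⁻¹ = S.pD z := fun {z} hz => by
        have := S.pD_mul hz (S.D.inv_mem hz)
        rw [mul_inv_cancel, S.pD_of_C S.C.one_mem] at this
        linear_combination -this - S.pD z * two_eq_zero n
      rw [k, S.pD_mul (S.D.mul_mem (S.D.mul_mem a.2 b.2) (S.D.inv_mem a.2)) (S.D.inv_mem b.2),
        S.pD_mul (S.D.mul_mem a.2 b.2) (S.D.inv_mem a.2), S.pD_mul a.2 b.2, hinv a.2, hinv b.2]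
      linear_combination (S.pD a.1 + S.pD b.1) * two_eq_zero n
  by_cases hD : ∀ z ∈ S.D, z ∈ S.C
  · exact S.central (hD y hy) x
  push Not at hD
  obtain ⟨z, hzD, hzC⟩ := hD
  have hz0 : S.pD z ≠ 0 := fun h => hzC (S.pD_eq_zero hzD h)
  have hsurj : Function.Surjective fun a : ↥S.D => S.pD a := by
    intro t
    by_cases ht : t = 0
    · exact ⟨1, by rw [ht]; exact S.pD_of_C S.C.one_mem⟩
    · obtain ⟨a, ha, hat⟩ := invariant_mem S.zeta_gen (S := {t | ∃ a ∈ S.D, S.pD a = t})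
        (fun t ⟨a, ha, hat⟩ => ⟨S.ρ a, S.rho_mem_D ha, by rw [S.pD_rho ha, hat]⟩)
        ⟨z, hzD, rfl⟩ hz0 ht
      exact ⟨⟨a, ha⟩, hat⟩
  have := pairing_alternating (two_eq_zero n) (exists_sqrt n) S.zeta_gen (A := ↥S.D)
    (fun a => S.pD a) (fun a => ⟨S.ρ a, S.rho_mem_D a.2⟩) (fun a b => S.pD_mul a.2 b.2) hsurj
    (fun a => S.pD_rho a.2) (fun a b => S.c (k (a : Q) b))
    (fun a a' b => S.ck_mul_left (hk a' b) (hk a b)) (fun a b b' => S.ck_mul_right (hk a b) (hk a b'))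
    (fun a b => by rw [← k_map, S.c_rho (hk a b)])
    (fun a => by rw [k_eq_one.2 rfl, c_one])
    (fun a b h => by rw [k_eq_one.2 (S.central (S.pD_eq_zero a.2 h) b).symm, c_one])
    ⟨x, hx⟩ ⟨y, hy⟩
  exact k_eq_one.1 (S.c_eq_zero (hk ⟨x, hx⟩ ⟨y, hy⟩) this)

/-- Automorphisms of the quotient by the fixed points. -/
theorem C_map_eq (φ : MulAut Q) (h : ∀ x ∈ S.C, φ x ∈ S.C) : S.C.map φ.toMonoidHom = S.C := by
  refine Subgroup.eq_of_le_of_card_ge ?_ ?_
  · rintro _ ⟨x, hx, rfl⟩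
    exact h x hx
  · exact le_of_eq (Subgroup.card_map_of_injective φ.injective).symm

instance C_normal : S.C.Normal := ⟨fun c hc x => by rw [S.conj_C hc]; exact hc⟩

theorem exists_mem_D_notMem_C (hne : S.C ≠ ⊤) : ∃ x ∈ S.D, x ∉ S.C := by
  classical
  let ᾱ : MulAut (Q ⧸ S.C) := QuotientGroup.congr S.C S.C S.α (S.C_map_eq S.α fun x hx => by
    rw [mem_C] at hx ⊢; rw [hx, hx])
  haveI : Fintype (Q ⧸ S.C) := Fintype.ofFinite _
  have hbar : ∀ x : Q, ᾱ (x : Q ⧸ S.C) = (S.α x : Q ⧸ S.C) := fun x => rfl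
  let f : Equiv.Perm (Q ⧸ S.C) :=
    { toFun := ᾱ, invFun := ᾱ
      left_inv := fun y => QuotientGroup.induction_on y fun x => by rw [hbar, hbar, S.aa]
      right_inv := fun y => QuotientGroup.induction_on y fun x => by rw [hbar, hbar, S.aa] }
  haveI : Fact (Nat.Prime 2) := ⟨Nat.prime_two⟩
  have hf : f ^ 2 ^ 1 = 1 := Equiv.ext fun y => QuotientGroup.induction_on y fun x => by
    show ᾱ (ᾱ (x : Q ⧸ S.C)) = x
    rw [hbar, hbar, S.aa]
  have hev : 2 ∣ Fintype.card (Q ⧸ S.C) := by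
    obtain ⟨j, hj⟩ := IsPGroup.iff_card.1 (S.pg.to_quotient S.C)
    rw [← Nat.card_eq_fintype_card, hj]
    cases j with
    | zero =>
      exfalso
      refine hne (Subgroup.index_eq_one.1 ?_)
      rw [Subgroup.index_eq_card, hj, pow_zero]
    | succ j => exact dvd_pow_self 2 (Nat.succ_ne_zero j)
  obtain ⟨y, hy, hy1⟩ := Equiv.Perm.exists_fixed_point_of_prime' hev hf (a := (1 : Q ⧸ S.C))
    (map_one ᾱ)
  obtain ⟨x, rfl⟩ := QuotientGroup.mk_surjective y
  refine ⟨x, ?_, fun h => hy1 ((QuotientGroup.eq_one_iff x).2 h)⟩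
  rw [mem_D]
  exact QuotientGroup.eq.1 (Eq.symm (hy : ᾱ (x : Q ⧸ S.C) = x))

theorem pD_surj (hne : S.C ≠ ⊤) (t : GaloisField 2 n) : ∃ x ∈ S.D, S.pD x = t := by
  by_cases ht : t = 0
  · exact ⟨1, S.D.one_mem, ht ▸ S.pD_of_C S.C.one_mem⟩
  obtain ⟨z, hzD, hzC⟩ := S.exists_mem_D_notMem_C hne
  exact invariant_mem S.zeta_gen (S := {t | ∃ a ∈ S.D, S.pD a = t})
    (fun t ⟨a, ha, hat⟩ => ⟨S.ρ a, S.rho_mem_D ha, by rw [S.pD_rho ha, hat]⟩)
    ⟨z, hzD, rfl⟩ (fun h => hzC (S.pD_eq_zero hzD h)) ht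

theorem eq_of_mk {x y : Q} : (x : Q ⧸ S.C) = y ↔ x⁻¹ * y ∈ S.C := QuotientGroup.eq

/-- The configuration on the quotient by the fixed points. -/
theorem exists_quot (hne : S.C ≠ ⊤) :
    ∃ R : Ctx (Q ⧸ S.C) n, ∀ x : Q, R.α (x : Q ⧸ S.C) = (S.α x : Q ⧸ S.C) ∧
      R.ρ (x : Q ⧸ S.C) = (S.ρ x : Q ⧸ S.C) := by
  classical
  let ᾱ : MulAut (Q ⧸ S.C) := QuotientGroup.congr S.C S.C S.α (S.C_map_eq S.α fun x hx => by
    rw [mem_C] at hx ⊢; rw [hx, hx])
  let ρ' : MulAut (Q ⧸ S.C) := QuotientGroup.congr S.C S.C S.ρ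
    (S.C_map_eq S.ρ fun x hx => S.rho_mem_C hx)
  have hbar : ∀ x : Q, ᾱ (x : Q ⧸ S.C) = (S.α x : Q ⧸ S.C) := fun x => rfl
  have hrbar : ∀ (j : ℕ) (x : Q), (ρ' ^ j) (x : Q ⧸ S.C) = ((S.ρ ^ j) x : Q ⧸ S.C) := by
    intro j
    induction j with
    | zero => intro x; rfl
    | succ j ih => intro x; rw [pow_succ', pow_succ', MulAut.mul_apply, MulAut.mul_apply, ih]; rfl
  have hfix : ∀ x : Q, ᾱ (x : Q ⧸ S.C) = x ↔ x ∈ S.D := fun x => by
    rw [hbar, eq_comm, S.eq_of_mk]; exact Iff.rfl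
  refine ⟨⟨ᾱ, ρ', S.two_le, S.pg.to_quotient S.C,
    fun y => QuotientGroup.induction_on y fun x => by rw [hbar, hbar, S.aa],
    fun y => QuotientGroup.induction_on y fun x => by
      show ᾱ ((S.ρ x : Q ⧸ S.C)) = ρ' (ᾱ (x : Q ⧸ S.C))
      rw [hbar, hbar, S.comm]; rfl,
    fun y => QuotientGroup.induction_on y fun x hx => by
      rw [← QuotientGroup.mk_mul, QuotientGroup.eq_one_iff]
      exact S.sq_mem_C ((hfix x).1 hx), ?_, ?_⟩, fun x => ⟨hbar x, rfl⟩⟩
  · -- the fixed points correspond to the values of `pD`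
    let g : GaloisField 2 n → {y : Q ⧸ S.C // ᾱ y = y} := fun t =>
      ⟨((S.pD_surj hne t).choose : Q ⧸ S.C), (hfix _).2 (S.pD_surj hne t).choose_spec.1⟩
    have hg : Function.Bijective g := by
      refine ⟨fun t t' h => ?_, fun ⟨y, hy⟩ => ?_⟩
      · obtain ⟨a, ⟨ha, hat⟩⟩ : ∃ a, a ∈ S.D ∧ S.pD a = t := S.pD_surj hne t
        obtain ⟨h1, h2⟩ := (S.pD_surj hne t).choose_spec
        obtain ⟨h1', h2'⟩ := (S.pD_surj hne t').choose_spec
        have h3 := S.eq_of_mk.1 (congrArg Subtype.val h)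
        have h4 := S.pD_mul h1 (S.C_le_D h3)
        rw [mul_inv_cancel_left, h2', h2, S.pD_of_C h3, add_zero] at h4
        exact h4.symm
      · obtain ⟨x, rfl⟩ := QuotientGroup.mk_surjective y
        have hx : x ∈ S.D := (hfix x).1 hy
        refine ⟨S.pD x, Subtype.ext (S.eq_of_mk.2 ?_)⟩
        obtain ⟨h1, h2⟩ := (S.pD_surj hne (S.pD x)).choose_spec
        refine S.pD_eq_zero (S.D.mul_mem (S.D.inv_mem h1) hx) ?_
        have h4 := S.pD_mul h1 (S.D.mul_mem (S.D.inv_mem h1) hx)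
        rw [mul_inv_cancel_left, h2] at h4
        linear_combination -h4
    rw [← Nat.card_eq_of_bijective g hg]
    exact GaloisField.card 2 n (by have := S.two_le; omega)
  · intro y y' hy hy' hy1 hy1'
    obtain ⟨x, rfl⟩ := QuotientGroup.mk_surjective y
    obtain ⟨x', rfl⟩ := QuotientGroup.mk_surjective y'
    have hx := (hfix x).1 hy
    have hx' := (hfix x').1 hy'
    have h1 : S.e x ≠ 1 := fun h => hy1 ((QuotientGroup.eq_one_iff x).2 (S.e_eq_one.1 h))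
    have h1' : S.e x' ≠ 1 := fun h => hy1' ((QuotientGroup.eq_one_iff x').2 (S.e_eq_one.1 h))
    obtain ⟨j, hj⟩ := S.trans _ _ hx hx' h1 h1'
    refine ⟨j, (hrbar j x).trans (S.eq_of_mk.2 ?_)⟩
    have he : S.e ((S.ρ ^ j) x) = S.e x' := by
      rw [← hj]; simp only [e, map_mul, map_inv, S.comm_pow]
    have hxj : (S.ρ ^ j) x ∈ S.D := by rw [mem_D, he]; exact hx'
    refine S.e_eq_one.1 ?_
    rw [S.e_mul_of_C (S.D.inv_mem hxj)]
    have h2 := S.e_mul_of_C (y := ((S.ρ ^ j) x)⁻¹) hxj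
    rw [mul_inv_cancel, S.e_of_C S.C.one_mem] at h2
    rw [← inv_eq_of_mul_eq_one_right h2.symm, he, inv_mul_cancel]

end Ctx

end CfsgLib.InvChar.FixedLine
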