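import Mathlib
import Cfsg.Agent.Lib.InvChar.FixedLine.Setup

/-!
# All squares are fixed in the non-abelian case

Induction on the order: in the quotient by the fixed points either everything is abelian, and then
the commutator form shows that the quotient has exponent two, or the squares lie in the second
layer, which the commutator forms show to be impossible.
-/

set_option autoImplicit false
set_option linter.unusedSectionVars false
set_option linter.style.haveILetI false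

namespace CfsgLib.InvChar.FixedLine

universe u

namespace Ctx

variable {Q : Type u} [Group Q] [Finite Q] {n : ℕ} (S : Ctx Q n)

/-- An abelian configuration has exponent two, or a power map onto the fixed points whose kernel
consists of squares. -/
theorem abelian_cases (hab : ∀ x y : Q, x * y = y * x) :
    (∀ x : Q, x * x = 1) ∨ ∃ j : ℕ, (∀ x : Q, x ^ 2 ^ j ∈ S.C) ∧
      (∀ c ∈ S.C, ∃ x : Q, x ^ 2 ^ j = c) ∧ ∀ x : Q, x ^ 2 ^ j = 1 → ∃ y, x = y * y := by
  classical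
  by_cases hex : ∀ x : Q, x * x = 1
  · exact Or.inl hex
  right
  push Not at hex
  letI : CommGroup Q := { (inferInstance : Group Q) with mul_comm := hab }
  let sqh : Q →* Q := powMonoidHom 2
  have hsq : ∀ x, sqh x = x * x := fun x => pow_two x
  have hCsq : S.C ≤ sqh.range := by
    refine S.C_le_of_invariant ?_ ?_ ?_
    · intro h
      obtain ⟨x, hx⟩ := hex
      have hmem : sqh x ∈ sqh.range := ⟨x, rfl⟩
      rw [h, Subgroup.mem_bot, hsq] at hmem
      exact hx hmem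
    · rintro _ ⟨x, rfl⟩; exact ⟨S.α x, by rw [hsq, hsq, map_mul]⟩
    · rintro _ ⟨x, rfl⟩; exact ⟨S.ρ x, by rw [hsq, hsq, map_mul]⟩
  -- the trace
  let tr : Q →* Q :=
    { toFun := fun x => x * S.α x
      map_one' := by rw [map_one, one_mul]
      map_mul' := fun x y => by rw [map_mul, mul_mul_mul_comm] }
  have htrC : ∀ x, tr x ∈ S.C := fun x => by
    show S.α (x * S.α x) = x * S.α x
    rw [map_mul, S.aa, hab]
  have hinv : ∀ x : Q, x * x = 1 → x ∈ S.C := by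
    intro w hw
    by_contra hwC
    have hαw : S.α w ≠ w := fun h => hwC h
    have hcw : tr w ≠ 1 := fun h => hαw (by
      have h' : w * S.α w = 1 := h
      rw [← inv_eq_of_mul_eq_one_right h', inv_eq_of_mul_eq_one_right hw])
    obtain ⟨y, hy⟩ := hCsq (htrC w)
    rw [hsq] at hy
    let V : Subgroup Q := (sqh.ker).map tr
    have hker : ∀ x, x ∈ sqh.ker ↔ x * x = 1 := fun x => by rw [MonoidHom.mem_ker, hsq]
    have hV : S.C ≤ V := by
      refine S.C_le_of_invariant ?_ ?_ ?_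
      · intro h
        have hmem : tr w ∈ V := ⟨w, (hker w).2 hw, rfl⟩
        rw [h, Subgroup.mem_bot] at hmem
        exact hcw hmem
      · rintro _ ⟨x, hx, rfl⟩
        refine ⟨S.α x, (hker _).2 (by rw [← map_mul, (hker x).1 hx, map_one]), ?_⟩
        show S.α x * S.α (S.α x) = S.α (x * S.α x)
        rw [map_mul]
      · rintro _ ⟨x, hx, rfl⟩
        refine ⟨S.ρ x, (hker _).2 (by rw [← map_mul, (hker x).1 hx, map_one]), ?_⟩
        show S.ρ x * S.α (S.ρ x) = S.ρ (x * S.α x)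
        rw [map_mul, S.comm]
    obtain ⟨v, hv, hvy⟩ := hV (htrC y)
    rw [SetLike.mem_coe, hker] at hv
    let y' := y * v
    have hy'2 : y' * y' = tr w := by
      show y * v * (y * v) = tr w
      rw [mul_mul_mul_comm, hv, mul_one, hy]
    have hy'α : S.α y' = y'⁻¹ := by
      refine eq_inv_of_mul_eq_one_right ?_
      show tr (y * v) = 1
      rw [map_mul, hvy]
      exact S.sq _ (htrC y)
    have hαw' : S.α w = w * tr w := by
      show S.α w = w * (w * S.α w)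
      rw [← mul_assoc, hw, one_mul]
    have hz : S.α (y' * w) = y' * w := by
      rw [map_mul, hy'α, hαw', ← hy'2, mul_comm w, mul_assoc y' y' w, inv_mul_cancel_left]
    have hz2 := S.sq _ hz
    rw [mul_mul_mul_comm, hw, mul_one, hy'2] at hz2
    exact hcw hz2
  -- the exponent
  obtain ⟨m, hm⟩ := IsPGroup.iff_card.1 S.pg
  have hm1 : ∀ x : Q, x ^ 2 ^ m = 1 := fun x => by rw [← hm]; exact pow_card_eq_one'
  have hexi : ∃ j, ∀ x : Q, x ^ 2 ^ (j + 1) = 1 := ⟨m, fun x => by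
    rw [pow_succ, pow_mul, hm1, one_pow]⟩
  set j := Nat.find hexi with hj
  have hj1 : ∀ x : Q, x ^ 2 ^ (j + 1) = 1 := Nat.find_spec hexi
  obtain ⟨x₀, hx₀⟩ : ∃ x : Q, x ^ 2 ^ j ≠ 1 := by
    rcases Nat.eq_zero_or_pos j with h | h
    · obtain ⟨x, hx⟩ := hex
      exact ⟨x, fun e => hx (by rw [h, pow_zero, pow_one] at e; rw [e, one_mul])⟩
    · have := Nat.find_min hexi (show j - 1 < j by omega)
      push Not at this
      rwa [show j - 1 + 1 = j by omega] at this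
  let P : Q →* Q := powMonoidHom (2 ^ j)
  have hP : ∀ x, P x = x ^ 2 ^ j := fun x => rfl
  have hPC : ∀ x : Q, x ^ 2 ^ j ∈ S.C := fun x => hinv _ (by
    rw [← pow_two, ← pow_mul, ← pow_succ, hj1])
  have hrange : P.range = S.C := by
    refine le_antisymm ?_ (S.C_le_of_invariant ?_ ?_ ?_)
    · rintro _ ⟨x, rfl⟩; exact hPC x
    · intro h
      have hmem : P x₀ ∈ P.range := ⟨x₀, rfl⟩
      rw [h, Subgroup.mem_bot] at hmem
      exact hx₀ hmem
    · rintro _ ⟨x, rfl⟩; exact ⟨S.α x, by rw [hP, hP, map_pow]⟩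
    · rintro _ ⟨x, rfl⟩; exact ⟨S.ρ x, by rw [hP, hP, map_pow]⟩
  have hsqP : sqh.range ≤ P.ker := by
    rintro _ ⟨x, rfl⟩
    rw [MonoidHom.mem_ker, hP, hsq, ← pow_two, ← pow_mul, mul_comm, ← pow_succ, hj1]
  have hksq : sqh.ker = S.C := le_antisymm (fun x hx => hinv x (by
    rw [← hsq]; exact hx)) (fun c hc => (hsq c).trans (S.sq c hc))
  have heq : sqh.range = P.ker := by
    refine Subgroup.eq_of_le_of_card_ge hsqP (le_of_eq ?_)
    have h1 := P.ker.card_mul_index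
    rw [Subgroup.index_ker, hrange] at h1
    have h2 := sqh.ker.card_mul_index
    rw [Subgroup.index_ker, hksq, mul_comm] at h2
    exact Nat.eq_of_mul_eq_mul_right Nat.card_pos (h1.trans h2.symm)
  refine ⟨j, hPC, fun c hc => ?_, fun x hx => ?_⟩
  · rw [← hrange] at hc; exact hc
  · have : x ∈ P.ker := hx
    rw [← heq] at this
    obtain ⟨y, rfl⟩ := this
    exact ⟨y, hsq y⟩

theorem k_swap {R : Type*} [Group R] (x y : R) : k y x = (k x y)⁻¹ := by
  simp only [k]; group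

/-- Central commutator values are biadditive in powers. -/
theorem ck_sq {y z : Q} (h : k y z ∈ S.C) : k (y * y) z = 1 := by
  rw [k_mul_left, S.conj_C h, S.sq _ h]

/-- If the quotient by the fixed points is abelian, all squares are fixed. -/
theorem sq_of_quot_abelian (hna : ∃ x y : Q, x * y ≠ y * x) (hk : ∀ x y : Q, k x y ∈ S.C) :
    ∀ x : Q, x * x ∈ S.C := by
  classical
  have hne : S.C ≠ ⊤ := fun h => by
    obtain ⟨x, y, hxy⟩ := hna
    exact hxy (S.central (show y ∈ S.C by rw [h]; trivial) x)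
  obtain ⟨R, hR⟩ := S.exists_quot hne
  have hRC : ∀ x : Q, (x : Q ⧸ S.C) ∈ R.C ↔ x ∈ S.D := fun x => by
    rw [mem_C, (hR x).1, eq_comm, S.eq_of_mk]
    exact Iff.rfl
  rcases R.abelian_cases (fun a b => QuotientGroup.induction_on a fun x =>
      QuotientGroup.induction_on b fun y => k_eq_one.1 (by
        rw [show k (x : Q ⧸ S.C) y = ((k x y : Q) : Q ⧸ S.C) from
          (k_map (QuotientGroup.mk' S.C) x y).symm, QuotientGroup.eq_one_iff]
        exact hk x y)) with h | ⟨j, hj1, hj2, hj3⟩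
  · exact fun x => (QuotientGroup.eq_one_iff (x * x)).1 (h x)
  exfalso
  have hcomm : ∀ a b : Q, Commute (a : Q ⧸ S.C) b := fun a b => k_eq_one.1 (by
    rw [show k (a : Q ⧸ S.C) b = ((k a b : Q) : Q ⧸ S.C) from
      (k_map (QuotientGroup.mk' S.C) a b).symm, QuotientGroup.eq_one_iff]
    exact hk a b)
  have hpow : ∀ x : Q, x ^ 2 ^ j ∈ S.D := fun x => (hRC _).1 (by
    rw [QuotientGroup.mk_pow]; exact hj1 x)
  let pa : Q → GaloisField 2 n := fun x => S.pD (x ^ 2 ^ j)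
  have hpadd : ∀ x y, pa (x * y) = pa x + pa y := fun x y => by
    have h : ((x * y) ^ 2 ^ j : Q ⧸ S.C) = (x : Q ⧸ S.C) ^ 2 ^ j * (y : Q ⧸ S.C) ^ 2 ^ j :=
      Commute.mul_pow (hcomm x y) _
    rw [← QuotientGroup.mk_mul, ← QuotientGroup.mk_pow, ← QuotientGroup.mk_pow,
      ← QuotientGroup.mk_pow, ← QuotientGroup.mk_mul, S.eq_of_mk] at h
    show S.pD _ = S.pD _ + S.pD _
    rw [← S.pD_mul (hpow x) (hpow y)]
    have h2 := S.pD_mul (hpow (x * y)) (S.C_le_D h)
    rw [mul_inv_cancel_left, S.pD_of_C h, add_zero] at h2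
    exact h2.symm
  have hsurj : Function.Surjective pa := fun t => by
    obtain ⟨d, hd, rfl⟩ := S.pD_surj hne t
    obtain ⟨y, hy⟩ := hj2 _ ((hRC d).2 hd)
    obtain ⟨x, rfl⟩ := QuotientGroup.mk_surjective y
    rw [← QuotientGroup.mk_pow, S.eq_of_mk] at hy
    refine ⟨x, ?_⟩
    have h2 := S.pD_mul (hpow x) (S.C_le_D hy)
    rw [mul_inv_cancel_left, S.pD_of_C hy, add_zero] at h2
    exact h2.symm
  have hrho : ∀ x, pa (S.ρ x) = S.ζ * pa x := fun x => by
    show S.pD ((S.ρ x) ^ 2 ^ j) = _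
    rw [← map_pow, S.pD_rho (hpow x)]
  obtain ⟨x, y, hxy⟩ := hna
  refine hxy (k_eq_one.1 (S.c_eq_zero (hk x y) (pairing_alternating (two_eq_zero n) (exists_sqrt n)
    S.zeta_gen pa (fun x => S.ρ x) hpadd hsurj hrho (fun a b => S.c (k a b))
    (fun a a' b => S.ck_mul_left (hk _ _) (hk _ _)) (fun a b b' => S.ck_mul_right (hk _ _) (hk _ _))
    (fun a b => by rw [← k_map, S.c_rho (hk _ _)]) (fun a => by rw [k_eq_one.2 rfl, c_one])
    (fun a b ha => ?_) x y)))
  have h1 : a ^ 2 ^ j ∈ S.C := S.pD_eq_zero (hpow a) ha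
  obtain ⟨w, hw⟩ := hj3 (a : Q ⧸ S.C) (by rw [← QuotientGroup.mk_pow, QuotientGroup.eq_one_iff]; exact h1)
  obtain ⟨v, rfl⟩ := QuotientGroup.mk_surjective w
  rw [← QuotientGroup.mk_mul, S.eq_of_mk] at hw
  have hvv : k (v * v) b = 1 := S.ck_sq (hk v b)
  have hc : k (a⁻¹ * (v * v)) b = 1 := k_eq_one.2 (S.central hw b).symm
  have e := S.ck_mul_left (x := a) (y := a⁻¹ * (v * v)) (z := b) (hk _ _) (hk _ _)
  rw [mul_inv_cancel_left, hvv, hc, c_one, add_zero] at e
  exact e.symm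

/-- If all squares lie in the second layer, commutators lie in the fixed points. -/
theorem k_mem_of_sq_mem_D (hsqD : ∀ x : Q, x * x ∈ S.D) (hkD : ∀ d ∈ S.D, ∀ x : Q, k d x ∈ S.C) :
    ∀ x y : Q, k x y ∈ S.C := by
  classical
  by_contra hno
  have hne : S.C ≠ ⊤ := fun h => hno fun x y => by rw [h]; trivial
  have hkk : ∀ x y : Q, k x y ∈ S.D := fun x y => by
    have e : k x y = x * y * (x * y) * (y⁻¹ * x⁻¹ * y * (y⁻¹ * x⁻¹ * y)) * (y⁻¹ * y⁻¹) := by
      simp only [k]; group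
    rw [e]
    exact S.D.mul_mem (S.D.mul_mem (hsqD _) (hsqD _)) (hsqD _)
  have hconj : ∀ d ∈ S.D, ∀ x : Q, x * d * x⁻¹ ∈ S.D ∧ S.pD (x * d * x⁻¹) = S.pD d := by
    intro d hd x
    have e : x * d * x⁻¹ = d * k d⁻¹ x := by simp only [k]; group
    have hc := hkD d⁻¹ (S.D.inv_mem hd) x
    rw [e]
    exact ⟨S.D.mul_mem hd (S.C_le_D hc), by rw [S.pD_mul hd (S.C_le_D hc), S.pD_of_C hc, add_zero]⟩
  have hpk_swap : ∀ x y : Q, S.pD (k y x) = S.pD (k x y) := fun x y => by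
    have e := S.pD_mul (hkk x y) (hkk y x)
    rw [k_swap x y, mul_inv_cancel, S.pD_of_C S.C.one_mem, ← k_swap x y] at e
    linear_combination -e - S.pD (k x y) * two_eq_zero n
  have hpk_left : ∀ x y z : Q, S.pD (k (x * y) z) = S.pD (k x z) + S.pD (k y z) := fun x y z => by
    rw [k_mul_left, S.pD_mul (hconj _ (hkk y z) x).1 (hkk x z), (hconj _ (hkk y z) x).2, add_comm]
  have hpk_right : ∀ x y z : Q, S.pD (k x (y * z)) = S.pD (k x y) + S.pD (k x z) := fun x y z => by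
    rw [k_mul_right, S.pD_mul (hkk x y) (hconj _ (hkk x z) y).1, (hconj _ (hkk x z) y).2]
  have hpk_rho : ∀ x y : Q, S.pD (k (S.ρ x) (S.ρ y)) = S.ζ * S.pD (k x y) := fun x y => by
    rw [← k_map, S.pD_rho (hkk x y)]
  -- the third layer
  have hee : ∀ x : Q, S.e (S.e x) ∈ S.D := fun x => by
    rw [S.e_e]; exact S.D.inv_mem (hsqD _)
  have hemul : ∀ x y : Q, S.e x ∈ S.D →
      S.e (x * y) = y⁻¹ * S.e x * y * S.e y ∧ y⁻¹ * S.e x * y ∈ S.D ∧
        S.pD (y⁻¹ * S.e x * y) = S.pD (S.e x) := fun x y hx => by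
    have h := hconj _ hx y⁻¹
    rw [inv_inv] at h
    exact ⟨S.e_mul x y, h.1, h.2⟩
  let D₃ : Subgroup Q :=
    { carrier := {x | S.e x ∈ S.D}
      one_mem' := by show S.e 1 ∈ S.D; rw [S.e_of_C S.C.one_mem]; exact S.D.one_mem
      mul_mem' := fun {a b} ha hb => by
        show S.e (a * b) ∈ S.D
        rw [(hemul a b ha).1]
        exact S.D.mul_mem (hemul a b ha).2.1 hb
      inv_mem' := fun {a} ha => by
        show S.e a⁻¹ ∈ S.D
        obtain ⟨e1, e2, -⟩ := hemul a a⁻¹ ha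
        rw [mul_inv_cancel, S.e_of_C S.C.one_mem] at e1
        rw [← inv_eq_of_mul_eq_one_right e1.symm]
        exact S.D.inv_mem e2 }
  have hm3 : ∀ {x}, x ∈ D₃ ↔ S.e x ∈ S.D := Iff.rfl
  have hDD₃ : ∀ d ∈ S.D, d ∈ D₃ := fun d hd => hm3.2 (S.C_le_D hd)
  let p₃ : Q → GaloisField 2 n := fun y => S.pD (S.e y)
  have hp3add : ∀ x ∈ D₃, ∀ y ∈ D₃, p₃ (x * y) = p₃ x + p₃ y := fun x hx y hy => by
    obtain ⟨e1, e2, e3⟩ := hemul x y hx
    show S.pD (S.e (x * y)) = _
    rw [e1, S.pD_mul e2 hy, e3]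
  have hp3zero : ∀ x ∈ D₃, p₃ x = 0 → x ∈ S.D := fun x hx h => S.pD_eq_zero hx h
  have hp3D : ∀ d ∈ S.D, p₃ d = 0 := fun d hd => S.pD_of_C hd
  have hp3rho : ∀ x ∈ D₃, p₃ (S.ρ x) = S.ζ * p₃ x := fun x hx => by
    show S.pD (S.e (S.ρ x)) = _
    rw [S.e_rho, S.pD_rho hx]
  have hrho3 : ∀ x ∈ D₃, S.ρ x ∈ D₃ := fun x hx => by
    rw [hm3, S.e_rho]; exact S.rho_mem_D hx
  have hbD : ∀ x : Q, S.e x ∈ D₃ := fun x => hm3.2 (hee x)
  let p₀ : Q → GaloisField 2 n := fun x => p₃ (S.e x)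
  have hp0rho : ∀ x, p₀ (S.ρ x) = S.ζ * p₀ x := fun x => by
    show p₃ (S.e (S.ρ x)) = _
    rw [S.e_rho]; exact hp3rho _ (hbD x)
  have hp0add : ∀ x y, p₀ (x * y) = p₀ x + p₀ y := fun x y => by
    have e : S.e (x * y) = S.e x * k (S.e x)⁻¹ y⁻¹ * S.e y := by
      rw [S.e_mul]; simp only [k]; group
    show p₃ _ = _
    rw [e, hp3add _ (D₃.mul_mem (hbD x) (hDD₃ _ (hkk _ _))) _ (hbD y),
      hp3add _ (hbD x) _ (hDD₃ _ (hkk _ _)), hp3D _ (hkk _ _), add_zero]
  have hp0zero : ∀ x, p₀ x = 0 → x ∈ D₃ := fun x h => hm3.2 (hp3zero _ (hbD x) h)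
  have hsurj3 : ∀ t, ∃ y ∈ D₃, p₃ y = t := by
    intro t
    by_cases ht : t = 0
    · exact ⟨1, D₃.one_mem, ht ▸ hp3D 1 S.D.one_mem⟩
    obtain ⟨y, hy, hyD⟩ : ∃ y ∈ D₃, y ∉ S.D := by
      by_contra h
      push Not at h
      have hall : ∀ x : Q, x ∈ S.D := fun x => h x (hm3.2 (h _ (hbD x)))
      exact hno fun x y => hkD x (hall x) y
    exact invariant_mem S.zeta_gen (S := {t | ∃ y ∈ D₃, p₃ y = t})
      (fun t ⟨a, ha, hat⟩ => ⟨S.ρ a, hrho3 a ha, by rw [hp3rho a ha, hat]⟩) ⟨y, hy, rfl⟩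
      (fun h => hyD (hp3zero y hy h)) ht
  -- the third layer is proper
  have hp0surj : Function.Surjective p₀ := by
    intro t
    by_cases ht : t = 0
    · refine ⟨1, ?_⟩
      rw [ht]
      show p₃ (S.e 1) = 0
      rw [S.e_of_C S.C.one_mem]; exact hp3D 1 S.D.one_mem
    obtain ⟨x, hx⟩ : ∃ x, x ∉ D₃ := by
      by_contra h
      push Not at h
      refine hno fun x y => S.pD_eq_zero (hkk x y) ?_
      exact pairing_alternating (two_eq_zero n) (exists_sqrt n) S.zeta_gen p₃ (fun x => S.ρ x)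
        (fun a b => hp3add a (h a) b (h b)) (fun t => ⟨_, (hsurj3 t).choose_spec.2⟩)
        (fun a => hp3rho a (h a)) (fun a b => S.pD (k a b)) hpk_left (fun a b c => hpk_right a b c)
        hpk_rho (fun a => by rw [k_eq_one.2 rfl, S.pD_of_C S.C.one_mem])
        (fun a b ha => S.pD_of_C (hkD a (hp3zero a (h a) ha) b)) x y
    exact invariant_mem S.zeta_gen (S := Set.range p₀)
      (fun t ⟨a, ha⟩ => ⟨S.ρ a, by rw [hp0rho, ha]⟩) ⟨x, rfl⟩ (fun h => hx (hp0zero x h)) ht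
  -- the second layer centralises the third
  have hDD₃comm : ∀ d ∈ S.D, ∀ w ∈ D₃, k d w = 1 := by
    intro d hd w hw
    obtain ⟨x, hx⟩ := hp0surj (p₃ w)
    have h1 : k d (S.e x) = 1 := by
      have ha : S.α (k d x) = k d x := hkD d hd x
      rw [k_map, S.alpha_eq d, S.alpha_eq x, k_mul_left, S.conj_C (show k (S.e d) (x * S.e x) ∈ S.C by
        rw [k_eq_one.2 (S.central (mem_D (S := S) |>.1 hd) _).symm]; exact S.C.one_mem),
        k_eq_one.2 (S.central (mem_D (S := S) |>.1 hd) _).symm, one_mul, k_mul_right,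
        S.conj_C (hkD d hd _)] at ha
      exact mul_eq_left.1 ha
    have hD' : S.e x * w ∈ S.D := hp3zero _ (D₃.mul_mem (hbD x) hw) (by
      rw [hp3add _ (hbD x) _ hw, show p₃ (S.e x) = p₃ w from hx]
      linear_combination p₃ w * two_eq_zero n)
    have h2 := k_eq_one.2 (S.D_commute hd hD')
    rwa [k_mul_right, h1, one_mul, S.conj_C (hkD d hd w)] at h2
  -- the third layer is abelian
  have hsub3 : ∀ t, ∃ a : ↥D₃, p₃ a = t := fun t => by
    obtain ⟨a, ha, e⟩ := hsurj3 t; exact ⟨⟨a, ha⟩, e⟩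
  have hk3C : ∀ a b : ↥D₃, k (a : Q) b ∈ S.C := fun a b => S.pD_eq_zero (hkk _ _)
    (pairing_alternating (two_eq_zero n) (exists_sqrt n) S.zeta_gen (A := ↥D₃) (fun a => p₃ a)
      (fun a => ⟨S.ρ a, hrho3 a a.2⟩) (fun a b => hp3add _ a.2 _ b.2) hsub3
      (fun a => hp3rho _ a.2) (fun a b => S.pD (k (a : Q) b))
      (fun a a' b => hpk_left _ _ _) (fun a b b' => hpk_right _ _ _) (fun a b => hpk_rho _ _)
      (fun a => by rw [k_eq_one.2 rfl, S.pD_of_C S.C.one_mem])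
      (fun a b ha => S.pD_of_C (hkD _ (hp3zero _ a.2 ha) _)) a b)
  have hk3 : ∀ a ∈ D₃, ∀ b ∈ D₃, k a b = 1 := fun a ha b hb =>
    S.c_eq_zero (hk3C ⟨a, ha⟩ ⟨b, hb⟩) (pairing_alternating (two_eq_zero n) (exists_sqrt n)
      S.zeta_gen (A := ↥D₃) (fun a => p₃ a) (fun a => ⟨S.ρ a, hrho3 a a.2⟩)
      (fun a b => hp3add _ a.2 _ b.2) hsub3 (fun a => hp3rho _ a.2) (fun a b => S.c (k (a : Q) b))
      (fun a a' b => S.ck_mul_left (hk3C a' b) (hk3C a b))
      (fun a b b' => S.ck_mul_right (hk3C a b) (hk3C a b'))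
      (fun a b => by rw [← k_map, S.c_rho (hk3C a b)]) (fun a => by rw [k_eq_one.2 rfl, c_one])
      (fun a b h => by rw [hDD₃comm _ (hp3zero _ a.2 h) _ b.2, c_one]) ⟨a, ha⟩ ⟨b, hb⟩)
  -- the form between the third layer and the top
  obtain ⟨w₁, hw₁⟩ := pairing (two_eq_zero n) (exists_sqrt n) S.zeta_gen (A := ↥D₃) (B := Q)
    (fun a => p₃ a) p₀ (fun a => ⟨S.ρ a, hrho3 a a.2⟩) (fun x => S.ρ x)
    (fun a b => hp3add _ a.2 _ b.2) hp0add hsub3 hp0surj (fun a => hp3rho _ a.2) hp0rho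
    (fun a b => S.pD (k (a : Q) b)) (fun a a' b => hpk_left _ _ _) (fun a b b' => hpk_right _ _ _)
    (fun a b => hpk_rho _ _) (fun a b ha => S.pD_of_C (hkD _ (hp3zero _ a.2 ha) _))
    (fun a b hb => by rw [hk3 _ a.2 _ (hp0zero b hb), S.pD_of_C S.C.one_mem])
  have hw₁0 : w₁ ≠ 0 := fun h0 => by
    refine hno fun x y => S.pD_eq_zero (hkk x y) ?_
    refine pairing_alternating (two_eq_zero n) (exists_sqrt n) S.zeta_gen p₀ (fun x => S.ρ x)
      hp0add hp0surj hp0rho (fun a b => S.pD (k a b)) hpk_left hpk_right hpk_rho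
      (fun a => by rw [k_eq_one.2 rfl, S.pD_of_C S.C.one_mem]) (fun a b ha => ?_) x y
    have e := hw₁ ⟨a, hp0zero a ha⟩ b
    rw [h0, zero_mul, zero_mul] at e
    exact pow_eq_zero_iff two_ne_zero |>.1 e
  -- the form between the second layer and the top
  have hsub2 : ∀ t, ∃ a : ↥S.D, S.pD a = t := fun t => by
    obtain ⟨a, ha, e⟩ := S.pD_surj hne t; exact ⟨⟨a, ha⟩, e⟩
  obtain ⟨w₂, hw₂⟩ := pairing (two_eq_zero n) (exists_sqrt n) S.zeta_gen (A := ↥S.D) (B := Q)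
    (fun a => S.pD a) p₀ (fun a => ⟨S.ρ a, S.rho_mem_D a.2⟩) (fun x => S.ρ x)
    (fun a b => S.pD_mul a.2 b.2) hp0add hsub2 hp0surj (fun a => S.pD_rho a.2) hp0rho
    (fun a b => S.c (k (a : Q) b))
    (fun a a' b => S.ck_mul_left (hkD _ a'.2 _) (hkD _ a.2 _))
    (fun a b b' => S.ck_mul_right (hkD _ a.2 _) (hkD _ a.2 _))
    (fun a b => by rw [← k_map, S.c_rho (hkD _ a.2 _)])
    (fun a b ha => by rw [k_eq_one.2 (S.central (S.pD_eq_zero a.2 ha) b).symm, c_one])
    (fun a b hb => by rw [hDD₃comm _ a.2 _ (hp0zero b hb), c_one])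
  -- the identity
  have hid : ∀ x z y : Q, y ∈ D₃ → k x (k z y) = k z (k x y) := by
    intro x z y hy
    have hyk : ∀ d ∈ S.D, y * d = d * y := fun d hd => (k_eq_one.1 (hDD₃comm d hd y hy)).symm
    obtain ⟨hu, hv, hK⟩ : k x y ∈ S.D ∧ k z y ∈ S.D ∧ k x z ∈ S.D := ⟨hkk _ _, hkk _ _, hkk _ _⟩
    have hc1 : k x (k z y) ∈ S.C := by
      rw [k_swap]; exact S.C.inv_mem (hkD _ hv x)
    have hc2 : k z (k x y) ∈ S.C := by
      rw [k_swap]; exact S.C.inv_mem (hkD _ hu z)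
    have e1 : x * z * y * (x * z)⁻¹ = k x (k z y) * (k z y * k x y) * y := by
      simp only [k]; group
    have e2 : z * x * y * (z * x)⁻¹ = k z (k x y) * (k x y * k z y) * y := by
      simp only [k]; group
    have e3 : x * z * y * (x * z)⁻¹ = k x z * (z * x * y * (z * x)⁻¹) * (k x z)⁻¹ := by
      simp only [k]; group
    rw [e1, e2] at e3
    have hm : k z (k x y) * (k x y * k z y) ∈ S.D :=
      S.D.mul_mem (S.C_le_D hc2) (S.D.mul_mem hu hv)
    have hcm : Commute (k x z) (k z (k x y) * (k x y * k z y) * y) :=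
      (show Commute (k x z) (k z (k x y) * (k x y * k z y)) from S.D_commute hK hm).mul_right
        (show Commute (k x z) y from (hyk _ hK).symm)
    rw [hcm.eq, mul_inv_cancel_right] at e3
    have e4 := mul_right_cancel e3
    rw [S.D_commute hu hv] at e4
    exact mul_right_cancel e4
  have hw₂0 : w₂ = 0 := by
    obtain ⟨t, ht0, ht1⟩ := exists_ne_zero_one (n := n) S.two_le
    obtain ⟨x, hx⟩ := hp0surj 1
    obtain ⟨z, hz⟩ := hp0surj t
    obtain ⟨y, hy⟩ := hsub3 1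
    have hcs : ∀ a b : Q, k a b ∈ S.C → S.c (k b a) = S.c (k a b) := fun a b h => by
      rw [k_swap, S.C_inv h]
    have e := congrArg (fun q => S.c q ^ 4) (hid x z y y.2)
    rw [hcs _ x (hkD _ (hkk z y) x), hcs _ z (hkD _ (hkk x y) z)] at e
    have f1 := hw₂ ⟨_, hkk z y⟩ x
    have f2 := hw₂ ⟨_, hkk x y⟩ z
    have g1 : S.pD (k z y) ^ 2 = w₁ * t := by
      have g := hw₁ y z
      rw [hy, hz, mul_one] at g
      rw [hpk_swap]; exact g
    have g2 : S.pD (k x (y : Q)) ^ 2 = w₁ := by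
      have g := hw₁ y x
      rw [hy, hx, mul_one, mul_one] at g
      rw [hpk_swap]; exact g
    simp only at f1 f2
    rw [hx, mul_one] at f1
    rw [hz] at f2
    have e' : (w₂ * S.pD (k z y)) ^ 2 = (w₂ * S.pD (k x y) * t) ^ 2 := by
      rw [← f1, ← f2, ← pow_mul, ← pow_mul]; exact e
    have e'' : w₂ ^ 2 * w₁ * (t * (1 - t)) = 0 := by
      linear_combination e' - w₂ ^ 2 * g1 + w₂ ^ 2 * t ^ 2 * g2
    rcases mul_eq_zero.1 e'' with h | h
    · rcases mul_eq_zero.1 h with h | h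
      · exact pow_eq_zero_iff two_ne_zero |>.1 h
      · exact absurd h hw₁0
    · rcases mul_eq_zero.1 h with h | h
      · exact absurd h ht0
      · exact absurd (sub_eq_zero.1 h).symm ht1
  have hDcent : ∀ d ∈ S.D, ∀ x : Q, k d x = 1 := fun d hd x => S.c_eq_zero (hkD d hd x) (by
    have e := hw₂ ⟨d, hd⟩ x
    rw [hw₂0, zero_mul, zero_mul] at e
    exact pow_eq_zero_iff two_ne_zero |>.1 e)
  -- contradiction
  obtain ⟨y, hy⟩ := hsub3 1
  obtain ⟨x, hx⟩ := hp0surj 1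
  have hfix : k (y : Q) x ∈ S.C := by
    rw [mem_C, k_map, S.alpha_eq (y : Q), S.alpha_eq x, k_mul_left,
      hDcent _ (show S.e (y : Q) ∈ S.D from y.2) _, mul_one, mul_inv_cancel, one_mul, k_mul_right,
      hk3 _ y.2 _ (hbD x), mul_one, mul_inv_cancel, mul_one]
  have e := hw₁ y x
  rw [hy, hx, mul_one, mul_one, S.pD_of_C hfix] at e
  exact hw₁0 (by rw [← e]; ring)

end Ctx

/-- In the non-abelian case every square is fixed. -/
theorem sq_mem_C_of_nonabelian : ∀ (m : ℕ) {Q : Type u} [Group Q] [Finite Q] {n : ℕ} (S : Ctx Q n),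
    Nat.card Q = m → (∃ x y : Q, x * y ≠ y * x) → ∀ x : Q, x * x ∈ S.C := by
  intro m
  induction m using Nat.strong_induction_on with
  | _ m ih =>
    intro Q _ _ n S hm hna
    refine S.sq_of_quot_abelian hna ?_
    by_contra hno
    push Not at hno
    obtain ⟨a, b, hab⟩ := hno
    have hne : S.C ≠ ⊤ := fun h => hab (by rw [h]; trivial)
    obtain ⟨R, hR⟩ := S.exists_quot hne
    have hRC : ∀ x : Q, (x : Q ⧸ S.C) ∈ R.C ↔ x ∈ S.D := fun x => by
      rw [Ctx.mem_C, (hR x).1, eq_comm, S.eq_of_mk]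
      exact Iff.rfl
    have hlt : Nat.card (Q ⧸ S.C) < m := by
      have h1 := S.C.card_eq_card_quotient_mul_card_subgroup
      rw [hm, S.card_C] at h1
      have h2 : 0 < Nat.card (Q ⧸ S.C) := Nat.card_pos
      have h3 : 2 ≤ 2 ^ n := le_self_pow₀ (by norm_num) (by have := S.two_le; omega)
      rw [h1]
      exact (Nat.lt_mul_iff_one_lt_right h2).2 (by omega)
    have hkmk : ∀ x y : Q, k (x : Q ⧸ S.C) y = ((k x y : Q) : Q ⧸ S.C) := fun x y =>
      (k_map (QuotientGroup.mk' S.C) x y).symm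
    have hsqR := ih _ hlt R rfl ⟨a, b, fun h => hab ((QuotientGroup.eq_one_iff _).1 (by
      rw [← hkmk]; exact k_eq_one.2 h))⟩
    refine hab (S.k_mem_of_sq_mem_D (fun x => (hRC _).1 (hsqR (x : Q ⧸ S.C))) (fun d hd x => ?_) a b)
    rw [← QuotientGroup.eq_one_iff, ← hkmk]
    exact k_eq_one.2 (R.central ((hRC d).2 hd) _).symm

end CfsgLib.InvChar.FixedLine
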