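import Mathlib
import Cfsg.Agent.Lib.InvChar.FixedLine.Squares
import Cfsg.Agent.Lib.InvChar.FixedLine.Models

/-!
# The squaring map as a binary quadratic form

In the non-abelian case the group modulo the fixed points is a plane over `GF(2ⁿ)` and squaring is
a non-degenerate binary quadratic form, hence the split or the anisotropic one.
-/

set_option autoImplicit false
set_option linter.unusedSectionVars false
set_option linter.style.haveILetI false

namespace CfsgLib.InvChar.FixedLine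

universe u

/-- Change of coordinates in a squaring map. -/
theorem HasSquareMap.change {Q : Type*} [Group Q] {V W : Type*} [AddCommGroup V] [AddCommGroup W]
    {N N' : V → W} (h : HasSquareMap Q N) (L : V → V) (M : W → W)
    (hL : ∀ v v', L (v + v') = L v + L v') (hLi : Function.Injective L) (hLs : Function.Surjective L)
    (hM : ∀ w w', M (w + w') = M w + M w') (hMi : Function.Injective M) (hMs : Function.Surjective M)
    (hN : ∀ v, N' (L v) = M (N v)) : HasSquareMap Q N' := by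
  obtain ⟨θ, ψ, hθ, hsur, hc, hψ, hinj, hW, hsq⟩ := h
  have hL0 : L 0 = 0 := by
    have := hL 0 0; rw [add_zero] at this; simpa using this
  have hM0 : M 0 = 0 := by
    have := hM 0 0; rw [add_zero] at this; simpa using this
  have hz : ∀ x, L (θ x) = 0 → θ x = 0 := fun x hx => hLi (hx.trans hL0.symm)
  refine ⟨fun x => L (θ x), fun x => M (ψ x), fun x y => by simp only [hθ, hL],
    fun v => ?_, fun x hx => hc x (hz x hx), fun x y hx hy => by
      simp only [hψ x y (hz x hx) (hz y hy), hM], fun x hx e => hinj x (hz x hx)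
        (hMi (e.trans hM0.symm)), fun w => ?_, fun x => ⟨?_, ?_⟩⟩
  · obtain ⟨v', rfl⟩ := hLs v
    obtain ⟨x, rfl⟩ := hsur v'
    exact ⟨x, rfl⟩
  · obtain ⟨w', rfl⟩ := hMs w
    obtain ⟨x, hx, rfl⟩ := hW w'
    exact ⟨x, by show L (θ x) = 0; rw [hx, hL0], rfl⟩
  · show L (θ (x * x)) = 0
    rw [(hsq x).1, hL0]
  · show M (ψ (x * x)) = N' (L (θ x))
    rw [(hsq x).2, hN]

/-- The split form. -/
def formSplit {K : Type*} [Field K] (v : K × K) : K := v.1 * v.2

/-- The forms `a² + ab + d b²`. -/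
def formOf {K : Type*} [Field K] (d : K) (v : K × K) : K := v.1 * v.1 + v.1 * v.2 + d * (v.2 * v.2)

variable {K : Type*} [Field K] [Finite K]

/-- An additive functional of index two. -/
theorem artinSchreier_add (h2 : (2 : K) = 0) {d d' : K} (hd : ¬ ∃ t, t * t + t = d)
    (hd' : ¬ ∃ t, t * t + t = d') : ∃ t, t * t + t = d + d' := by
  classical
  let f : K →+ K :=
    { toFun := fun t => t * t + t
      map_zero' := by ring
      map_add' := fun x y => by linear_combination (x * y) * h2 }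
  have hker : f.ker = AddSubgroup.zmultiples (1 : K) ∧ Nat.card f.ker = 2 := by
    have hmem : ∀ t, t ∈ f.ker ↔ t = 0 ∨ t = 1 := fun t => by
      show t * t + t = 0 ↔ _
      constructor
      · intro h
        have : t * (t + 1) = 0 := by linear_combination h
        rcases mul_eq_zero.1 this with h | h
        · exact Or.inl h
        · exact Or.inr (by linear_combination h - h2)
      · rintro (rfl | rfl)
        · ring
        · linear_combination h2
    have h1 : addOrderOf (1 : K) = 2 := addOrderOf_eq_prime (by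
      rw [nsmul_one]; exact_mod_cast h2) one_ne_zero
    have e : f.ker = AddSubgroup.zmultiples (1 : K) := by
      ext t
      rw [hmem, AddSubgroup.mem_zmultiples_iff]
      constructor
      · rintro (rfl | rfl)
        · exact ⟨0, zero_zsmul _⟩
        · exact ⟨1, one_zsmul _⟩
      · rintro ⟨j, rfl⟩
        rw [zsmul_one]
        rcases Int.even_or_odd' j with ⟨i, rfl | rfl⟩
        · left; push_cast; linear_combination (i : K) * h2
        · right; push_cast; linear_combination (i : K) * h2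
    exact ⟨e, by rw [e, Nat.card_zmultiples, h1]⟩
  have hidx : f.range.index = 2 := by
    have h1 := f.range.card_mul_index
    have h3 : f.ker.index = Nat.card ↥f.range := AddSubgroup.index_ker f
    have h4 := f.ker.card_mul_index
    rw [hker.2, h3, ← h1, mul_comm] at h4
    exact (Nat.eq_of_mul_eq_mul_left Nat.card_pos h4).symm
  exact (AddSubgroup.add_mem_iff_of_index_two hidx).2
    (iff_of_false (fun h => hd h) (fun h => hd' h))

/-- A non-degenerate binary form is split or equivalent to a given anisotropic one. -/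
theorem squareMap_normal {Q : Type*} [Group Q] (h2 : (2 : K) = 0) {k₁ k₂ β : K} (hβ : β ≠ 0)
    (h : HasSquareMap Q fun v : K × K => k₁ * (v.1 * v.1) + k₂ * (v.2 * v.2) + β * (v.1 * v.2))
    {d₀ : K} (hd₀ : ¬ ∃ t, t * t + t = d₀) :
    HasSquareMap Q (formSplit (K := K)) ∨ HasSquareMap Q (formOf d₀) := by
  by_cases hk : k₁ = 0
  · left
    refine h.change (fun v => (v.2, β * v.1 + k₂ * v.2)) id (fun v v' => ?_) (fun v v' e => ?_)
      (fun v => ⟨((v.2 - k₂ * v.1) / β, v.1), ?_⟩) (fun _ _ => rfl) Function.injective_id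
      Function.surjective_id fun v => ?_
    · ext <;> simp only [Prod.fst_add, Prod.snd_add] <;> ring
    · simp only [Prod.mk.injEq] at e
      obtain ⟨e1, e2⟩ := e
      rw [e1] at e2
      exact Prod.ext (mul_left_cancel₀ hβ (add_right_cancel e2)) e1
    · ext
      · rfl
      · field_simp; ring
    · simp only [formSplit, id, hk]; ring
  · obtain ⟨d, hd⟩ : ∃ d, d = k₁ * k₂ / (β * β) := ⟨_, rfl⟩
    have h' : HasSquareMap Q (formOf d) := by
      refine h.change (fun v => (v.1, β / k₁ * v.2)) (fun w => w / k₁) (fun v v' => ?_)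
        (fun v v' e => ?_) (fun v => ⟨(v.1, k₁ / β * v.2), ?_⟩) (fun w w' => add_div w w' k₁)
        (fun w w' e => (div_left_inj' hk).1 e) (fun w => ⟨w * k₁, mul_div_cancel_right₀ w hk⟩)
        fun v => ?_
      · ext <;> simp only [Prod.fst_add, Prod.snd_add] <;> ring
      · simp only [Prod.mk.injEq] at e
        exact Prod.ext e.1 (mul_left_cancel₀ (div_ne_zero hβ hk) e.2)
      · ext
        · rfl
        · field_simp
      · simp only [formOf, hd]; field_simp; ring
    by_cases hI : ∃ t, t * t + t = d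
    · obtain ⟨t, ht⟩ := hI
      left
      refine h'.change (fun v => (v.1 + t * v.2, v.1 + (t + 1) * v.2)) id (fun v v' => ?_)
        (fun v v' e => ?_) (fun v => ⟨(v.1 - t * (v.2 - v.1), v.2 - v.1), ?_⟩) (fun _ _ => rfl)
        Function.injective_id Function.surjective_id fun v => ?_
      · ext <;> simp only [Prod.fst_add, Prod.snd_add] <;> ring
      · simp only [Prod.mk.injEq] at e
        obtain ⟨e1, e2⟩ := e
        have e3 : v.2 = v'.2 := by linear_combination e2 - e1
        rw [e3] at e1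
        exact Prod.ext (add_right_cancel e1) e3
      · ext <;> dsimp only <;> ring
      · simp only [formSplit, formOf, id, ← ht]
        linear_combination (t * v.1 * v.2) * h2
    · obtain ⟨t, ht⟩ := artinSchreier_add h2 hI hd₀
      right
      refine h'.change (fun v => (v.1 + t * v.2, v.2)) id (fun v v' => ?_)
        (fun v v' e => ?_) (fun v => ⟨(v.1 - t * v.2, v.2), ?_⟩) (fun _ _ => rfl)
        Function.injective_id Function.surjective_id fun v => ?_
      · ext <;> simp only [Prod.fst_add, Prod.snd_add]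
        ring
      · simp only [Prod.mk.injEq] at e
        obtain ⟨e1, e3⟩ := e
        rw [e3] at e1
        exact Prod.ext (add_right_cancel e1) e3
      · ext <;> dsimp only
        ring
      · simp only [formOf, id]
        linear_combination (v.2 * v.2) * ht + (v.1 * v.2 * t + d₀ * (v.2 * v.2)) * h2

namespace Ctx

variable {Q : Type u} [Group Q] [Finite Q] {n : ℕ} (S : Ctx Q n)

/-- The squaring map of a non-abelian configuration. -/
theorem exists_quadratic (hna : ∃ x y : Q, x * y ≠ y * x) (hρ : S.ρ ^ (2 ^ n - 1) = 1) :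
    ∃ k₁ k₂ β : GaloisField 2 n, β ≠ 0 ∧ HasSquareMap Q fun v : GaloisField 2 n × GaloisField 2 n =>
      k₁ * (v.1 * v.1) + k₂ * (v.2 * v.2) + β * (v.1 * v.2) := by
  classical
  have h2 := two_eq_zero n
  have hsqC := sq_mem_C_of_nonabelian _ S rfl hna
  have hkC : ∀ x y : Q, k x y ∈ S.C := fun x y => by
    have e : k x y = x * y * (x * y) * (y⁻¹ * x⁻¹ * y * (y⁻¹ * x⁻¹ * y)) * (y⁻¹ * y⁻¹) := by
      simp only [k]; group
    rw [e]
    exact S.C.mul_mem (S.C.mul_mem (hsqC _) (hsqC _)) (hsqC _)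
  have hne : S.C ≠ ⊤ := fun h => by
    obtain ⟨x, y, hxy⟩ := hna
    exact hxy (S.central (show y ∈ S.C by rw [h]; trivial) x)
  have heD : ∀ x, S.e x ∈ S.D := fun x => by
    rw [mem_D, S.e_e]; exact S.C.inv_mem (hsqC _)
  let p₀ : Q → GaloisField 2 n := fun x => S.pD (S.e x)
  have hp0add : ∀ x y, p₀ (x * y) = p₀ x + p₀ y := fun x y => by
    have e : S.e (x * y) = S.e x * k (S.e x)⁻¹ y⁻¹ * S.e y := by
      rw [S.e_mul]; simp only [k]; group
    show S.pD _ = _
    rw [e, S.pD_mul (S.D.mul_mem (heD x) (S.C_le_D (hkC _ _))) (heD y),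
      S.pD_mul (heD x) (S.C_le_D (hkC _ _)), S.pD_of_C (hkC _ _), add_zero]
  have hp0rho : ∀ x, p₀ (S.ρ x) = S.ζ * p₀ x := fun x => by
    show S.pD (S.e (S.ρ x)) = _
    rw [S.e_rho, S.pD_rho (heD x)]
  have hp0zero : ∀ x, p₀ x = 0 → x ∈ S.D := fun x h => S.pD_eq_zero (heD x) h
  have hp0D : ∀ d ∈ S.D, p₀ d = 0 := fun d hd => S.pD_of_C hd
  have hp0surj : Function.Surjective p₀ := by
    intro t
    by_cases ht : t = 0
    · exact ⟨1, ht ▸ hp0D 1 S.D.one_mem⟩
    obtain ⟨x, hx⟩ : ∃ x, x ∉ S.D := by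
      by_contra h
      push Not at h
      obtain ⟨x, y, hxy⟩ := hna
      exact hxy (S.D_commute (h x) (h y))
    exact invariant_mem S.zeta_gen (S := Set.range p₀)
      (fun t ⟨a, ha⟩ => ⟨S.ρ a, by rw [hp0rho, ha]⟩) ⟨x, rfl⟩ (fun h => hx (hp0zero x h)) ht
  have hp0C : ∀ x y : Q, x⁻¹ * y ∈ S.C → p₀ x = p₀ y := fun x y h => by
    have e := hp0add x (x⁻¹ * y)
    rw [mul_inv_cancel_left, hp0D _ (S.C_le_D h), add_zero] at e
    exact e.symm
  -- an equivariant section
  letI : CommGroup (Q ⧸ S.C) :=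
    { (inferInstance : Group (Q ⧸ S.C)) with
      mul_comm := fun a b => QuotientGroup.induction_on a fun x =>
        QuotientGroup.induction_on b fun y => k_eq_one.1 (by
          rw [show k (x : Q ⧸ S.C) y = ((k x y : Q) : Q ⧸ S.C) from
            (k_map (QuotientGroup.mk' S.C) x y).symm, QuotientGroup.eq_one_iff]
          exact hkC x y) }
  let pbar : Q ⧸ S.C → GaloisField 2 n := fun y => Quotient.liftOn' y p₀ fun a b h =>
    hp0C a b (QuotientGroup.leftRel_apply.1 h)
  have hpbar : ∀ x : Q, pbar (x : Q ⧸ S.C) = p₀ x := fun x => rfl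
  have hpbadd : ∀ a b, pbar (a * b) = pbar a + pbar b := fun a b =>
    QuotientGroup.induction_on a fun x => QuotientGroup.induction_on b fun y => hp0add x y
  letI : Module (ZMod 2) (Additive (Q ⧸ S.C)) := AddCommGroup.zmodModule (fun v => by
    rw [two_nsmul]
    refine Additive.toMul.injective ?_
    show Additive.toMul v * Additive.toMul v = 1
    exact QuotientGroup.induction_on (Additive.toMul v) (fun x =>
      (QuotientGroup.eq_one_iff (x * x)).2 (hsqC x)))
  let f : Additive (Q ⧸ S.C) →ₗ[ZMod 2] GaloisField 2 n := AddMonoidHom.toZModLinearMap 2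
    (AddMonoidHom.mk' (fun v => pbar v.toMul) fun v w => hpbadd v.toMul w.toMul)
  have hfsurj : Function.Surjective f := fun t => by
    obtain ⟨x, rfl⟩ := hp0surj t; exact ⟨Additive.ofMul (x : Q ⧸ S.C), rfl⟩
  obtain ⟨g, hg⟩ := f.exists_rightInverse_of_surjective (LinearMap.range_eq_top.2 hfsurj)
  let σ₀ : GaloisField 2 n → Q ⧸ S.C := fun t => (g t).toMul
  have hσ0add : ∀ a b, σ₀ (a + b) = σ₀ a * σ₀ b := fun a b => by
    show (g (a + b)).toMul = _
    rw [map_add]; rfl
  have hσ0 : ∀ t, pbar (σ₀ t) = t := fun t => LinearMap.congr_fun hg t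
  obtain ⟨R, hR⟩ := S.exists_quot hne
  have hRj : ∀ (j : ℕ) (x : Q), (R.ρ ^ j) (x : Q ⧸ S.C) = ((S.ρ ^ j) x : Q ⧸ S.C) := by
    intro j
    induction j with
    | zero => intro x; rfl
    | succ j ih => intro x; rw [pow_succ', pow_succ', MulAut.mul_apply, MulAut.mul_apply, ih, (hR _).2]
  set M := 2 ^ n - 1 with hM
  have hq : 2 ≤ 2 ^ n := le_self_pow₀ (by norm_num) (by have := S.two_le; omega)
  have hpρ : ∀ (j : ℕ) y, pbar ((R.ρ ^ j) y) = S.ζ ^ j * pbar y := fun j y =>
    QuotientGroup.induction_on y fun x => by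
      rw [hRj, hpbar, hpbar]
      induction j with
      | zero => simp
      | succ j ih => rw [pow_succ', MulAut.mul_apply, hp0rho, ih, pow_succ', mul_assoc]
  haveI : Fintype (GaloisField 2 n) := Fintype.ofFinite _
  have hζ0 : S.ζ ≠ 0 := fun h0 => by
    obtain ⟨t, ht0, ht1⟩ := exists_ne_zero_one (n := n) S.two_le
    obtain ⟨j, hj⟩ := S.zeta_gen t ht0
    rcases Nat.eq_zero_or_pos j with rfl | hj'
    · exact ht1 (by rw [← hj, pow_zero])
    · exact ht0 (by rw [← hj, h0, zero_pow hj'.ne'])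
  have hζM : S.ζ ^ M = 1 := by
    have e := FiniteField.pow_card_sub_one_eq_one S.ζ hζ0
    rwa [← Nat.card_eq_fintype_card, GaloisField.card 2 n (by have := S.two_le; omega)] at e
  let σ : GaloisField 2 n → Q ⧸ S.C := fun t =>
    ∏ j ∈ Finset.range M, (R.ρ ^ j) (σ₀ (S.ζ ^ (M - j) * t))
  have hMone : (M : GaloisField 2 n) = 1 := by
    have e : ((M + 1 : ℕ) : GaloisField 2 n) = 0 := by
      rw [hM, Nat.sub_add_cancel (by omega), Nat.cast_pow, Nat.cast_ofNat, h2,
        zero_pow (by have := S.two_le; omega)]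
    push_cast at e
    linear_combination e - h2
  have hσp : ∀ t, pbar (σ t) = t := fun t => by
    let F : Q ⧸ S.C →* Multiplicative (GaloisField 2 n) := MonoidHom.mk' (fun y => Multiplicative.ofAdd (pbar y))
      fun a b => by rw [hpbadd]; rfl
    have e := map_prod F (fun j => (R.ρ ^ j) (σ₀ (S.ζ ^ (M - j) * t))) (Finset.range M)
    have e' := congrArg Multiplicative.toAdd e
    rw [toAdd_prod] at e'
    refine (show pbar (σ t) = _ from e').trans ?_
    have : ∀ j ∈ Finset.range M, Multiplicative.toAdd (F ((R.ρ ^ j) (σ₀ (S.ζ ^ (M - j) * t)))) = t :=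
      fun j hj => by
        show pbar _ = t
        rw [hpρ, hσ0, ← mul_assoc, ← pow_add, Nat.add_sub_cancel' (Finset.mem_range.1 hj).le, hζM,
          one_mul]
    rw [Finset.sum_congr rfl this, Finset.sum_const, Finset.card_range, nsmul_eq_mul, hMone, one_mul]
  have hσadd : ∀ a b, σ (a + b) = σ a * σ b := fun a b => by
    show ∏ j ∈ _, _ = (∏ j ∈ _, _) * ∏ j ∈ _, _
    rw [← Finset.prod_mul_distrib]
    exact Finset.prod_congr rfl fun j _ => by rw [mul_add, hσ0add, map_mul]
  have hσρ : ∀ t, σ (S.ζ * t) = R.ρ (σ t) := fun t => by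
    let G : ℕ → Q ⧸ S.C := fun j => (R.ρ ^ j) (σ₀ (S.ζ ^ (M + 1 - j) * t))
    have hl : σ (S.ζ * t) = ∏ j ∈ Finset.range M, G j := Finset.prod_congr rfl fun j hj => by
      show _ = (R.ρ ^ j) (σ₀ (S.ζ ^ (M + 1 - j) * t))
      rw [show M + 1 - j = M - j + 1 by have := Finset.mem_range.1 hj; omega, pow_succ, mul_assoc]
    have hr : R.ρ (σ t) = ∏ j ∈ Finset.range M, G (j + 1) := by
      show R.ρ (∏ j ∈ _, _) = _
      rw [map_prod]
      refine Finset.prod_congr rfl fun j _ => ?_
      show _ = (R.ρ ^ (j + 1)) (σ₀ (S.ζ ^ (M + 1 - (j + 1)) * t))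
      rw [Nat.add_sub_add_right, pow_succ', MulAut.mul_apply]
    have hends : G 0 = G M := by
      show (R.ρ ^ 0) (σ₀ (S.ζ ^ (M + 1 - 0) * t)) = (R.ρ ^ M) (σ₀ (S.ζ ^ (M + 1 - M) * t))
      rw [Nat.sub_zero, pow_succ, hζM, one_mul, Nat.add_sub_cancel_left, pow_one, pow_zero,
        MulAut.one_apply]
      refine QuotientGroup.induction_on (σ₀ (S.ζ * t)) fun x => ?_
      rw [hRj, hρ]; rfl
    have e1 := Finset.prod_range_succ G M
    rw [Finset.prod_range_succ', hends] at e1
    rw [hl, hr]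
    exact (mul_right_cancel e1).symm
  let τ : GaloisField 2 n → Q := fun t => (QuotientGroup.mk_surjective (σ t)).choose
  have hτ : ∀ t, (τ t : Q ⧸ S.C) = σ t := fun t => (QuotientGroup.mk_surjective (σ t)).choose_spec
  have hτp : ∀ t, p₀ (τ t) = t := fun t => by rw [← hpbar, hτ, hσp]
  -- congruent elements have equal squares
  have hsq_congr : ∀ x y : Q, x⁻¹ * y ∈ S.C → y * y = x * x := fun x y h => by
    have hy : y = x * (x⁻¹ * y) := (mul_inv_cancel_left x y).symm
    rw [hy, mul_assoc x, ← mul_assoc (x⁻¹ * y) x, ← S.central h x, mul_assoc x (x⁻¹ * y), S.sq _ h,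
      mul_one]
  have hpD_congr : ∀ x y : Q, x ∈ S.D → x⁻¹ * y ∈ S.C → S.pD y = S.pD x := fun x y hx h => by
    have e := S.pD_mul hx (S.C_le_D h)
    rw [mul_inv_cancel_left, S.pD_of_C h, add_zero] at e
    exact e
  have hinv0 : ∀ x, p₀ x⁻¹ = p₀ x := fun x => by
    have e := hp0add x x⁻¹
    rw [mul_inv_cancel, hp0D 1 S.D.one_mem] at e
    linear_combination -e - p₀ x * h2
  have hbD : ∀ x, τ (p₀ x) * x ∈ S.D := fun x => hp0zero _ (by
    rw [hp0add, hτp]; linear_combination p₀ x * h2)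
  let θ : Q → GaloisField 2 n × GaloisField 2 n := fun x => (p₀ x, S.pD (τ (p₀ x) * x))
  have hθadd : ∀ x y, θ (x * y) = θ x + θ y := fun x y => by
    refine Prod.ext (hp0add x y) ?_
    show S.pD _ = S.pD _ + S.pD _
    rw [← S.pD_mul (hbD x) (hbD y)]
    refine hpD_congr _ _ (S.D.mul_mem (hbD x) (hbD y)) (S.eq_of_mk.1 ?_)
    rw [QuotientGroup.mk_mul, QuotientGroup.mk_mul, QuotientGroup.mk_mul, QuotientGroup.mk_mul,
      QuotientGroup.mk_mul, hτ, hτ, hτ, hp0add, hσadd, mul_mul_mul_comm]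
  have hτ0 : τ 0 ∈ S.C := by
    rw [← QuotientGroup.eq_one_iff, hτ]
    have e := hσadd 0 0
    rw [add_zero] at e
    exact left_eq_mul.1 e
  have hθC : ∀ x, θ x = 0 ↔ x ∈ S.C := fun x => by
    constructor
    · intro h
      have h1 : p₀ x = 0 := congrArg Prod.fst h
      have h3 : S.pD (τ (p₀ x) * x) = 0 := congrArg Prod.snd h
      have h4 := S.pD_eq_zero (hbD x) h3
      rw [h1] at h4
      simpa using S.C.mul_mem (S.C.inv_mem hτ0) h4
    · intro h
      refine Prod.ext (hp0D x (S.C_le_D h)) ?_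
      show S.pD _ = 0
      rw [hp0D x (S.C_le_D h)]
      exact S.pD_of_C (S.C.mul_mem hτ0 h)
  -- the coefficients
  let dsel : GaloisField 2 n → Q := fun t => (S.pD_surj hne t).choose
  have hdsel : ∀ t, dsel t ∈ S.D ∧ S.pD (dsel t) = t := fun t => (S.pD_surj hne t).choose_spec
  have hfd : ∀ d ∈ S.D, S.c (d * d) = S.c (dsel (S.pD d) * dsel (S.pD d)) := fun d hd => by
    obtain ⟨h1, h3⟩ := hdsel (S.pD d)
    rw [hsq_congr (dsel (S.pD d)) d (S.pD_eq_zero (S.D.mul_mem (S.D.inv_mem h1) hd) (by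
      have e := S.pD_mul h1 (S.D.mul_mem (S.D.inv_mem h1) hd)
      rw [mul_inv_cancel_left, h3] at e
      linear_combination -e))]
  have hflin : ∀ d ∈ S.D, S.c (d * d) = S.c (dsel 1 * dsel 1) * S.pD d := fun d hd => by
    rw [hfd d hd]
    refine additive_linear S.zeta_gen (fun t => S.c (dsel t * dsel t)) ?_ (fun t => ?_) (S.pD d)
    · have e := hfd 1 S.D.one_mem
      rw [one_mul, c_one, S.pD_of_C S.C.one_mem] at e
      exact e.symm
    · have e := hfd _ (S.rho_mem_D (hdsel t).1)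
      rw [S.pD_rho (hdsel t).1, (hdsel t).2, ← map_mul, S.c_rho (hsqC _)] at e
      exact e.symm
  have hglin : ∀ t, S.c (τ t * τ t) = S.c (τ 1 * τ 1) * t :=
    additive_linear S.zeta_gen (fun t => S.c (τ t * τ t))
      (by rw [S.sq _ hτ0, c_one]) fun t => by
        rw [hsq_congr (S.ρ (τ t)) (τ (S.ζ * t)) (S.eq_of_mk.1 (by rw [hτ, hσρ, ← hτ, (hR _).2])),
          ← map_mul, S.c_rho (hsqC _)]
  obtain ⟨w, hw⟩ := pairing h2 (exists_sqrt n) S.zeta_gen (A := ↥S.D) (B := Q) (fun a => S.pD a)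
    p₀ (fun a => ⟨S.ρ a, S.rho_mem_D a.2⟩) (fun x => S.ρ x) (fun a b => S.pD_mul a.2 b.2) hp0add
    (fun t => ⟨⟨dsel t, (hdsel t).1⟩, (hdsel t).2⟩) hp0surj (fun a => S.pD_rho a.2) hp0rho
    (fun a b => S.c (k (a : Q) b)) (fun a a' b => S.ck_mul_left (hkC _ _) (hkC _ _))
    (fun a b b' => S.ck_mul_right (hkC _ _) (hkC _ _))
    (fun a b => by rw [← k_map, S.c_rho (hkC _ _)])
    (fun a b ha => by rw [k_eq_one.2 (S.central (S.pD_eq_zero a.2 ha) b).symm, c_one])
    (fun a b hb => by rw [k_eq_one.2 (S.D_commute a.2 (hp0zero b hb)), c_one])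
  have hw0 : w ≠ 0 := fun h0 => by
    obtain ⟨x, y, hxy⟩ := hna
    refine hxy (k_eq_one.1 (S.c_eq_zero (hkC x y) (pairing_alternating h2 (exists_sqrt n) S.zeta_gen
      p₀ (fun x => S.ρ x) hp0add hp0surj hp0rho (fun a b => S.c (k a b))
      (fun a a' b => S.ck_mul_left (hkC _ _) (hkC _ _))
      (fun a b b' => S.ck_mul_right (hkC _ _) (hkC _ _))
      (fun a b => by rw [← k_map, S.c_rho (hkC _ _)]) (fun a => by rw [k_eq_one.2 rfl, c_one])
      (fun a b ha => ?_) x y)))
    have e := hw ⟨a, hp0zero a ha⟩ b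
    rw [h0, zero_mul, zero_mul] at e
    exact pow_eq_zero_iff two_ne_zero |>.1 e
  refine ⟨S.c (τ 1 * τ 1) ^ 2, S.c (dsel 1 * dsel 1) ^ 2, w, hw0, θ, fun x => S.c x ^ 2, hθadd,
    fun v => ?_, fun x hx y => ?_, fun x y hx hy => ?_, fun x hx h => ?_, fun t => ?_,
    fun x => ⟨?_, ?_⟩⟩
  · obtain ⟨a, b⟩ := v
    refine ⟨τ a * dsel b, ?_⟩
    have hd := hdsel b
    have h1 : p₀ (τ a * dsel b) = a := by rw [hp0add, hτp, hp0D _ hd.1, add_zero]
    refine Prod.ext h1 ?_
    show S.pD _ = b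
    rw [h1, ← mul_assoc, S.pD_mul (S.C_le_D (hsqC _)) hd.1, S.pD_of_C (hsqC _), zero_add, hd.2]
  · exact (S.central ((hθC x).1 hx) y).symm
  · show S.c (x * y) ^ 2 = S.c x ^ 2 + S.c y ^ 2
    rw [S.c_mul ((hθC x).1 hx) ((hθC y).1 hy)]
    linear_combination (S.c x * S.c y) * h2
  · exact S.c_eq_zero ((hθC x).1 hx) (pow_eq_zero_iff two_ne_zero |>.1 h)
  · obtain ⟨u, hu⟩ := exists_sqrt n t
    obtain ⟨x, hx, rfl⟩ := S.c_surj u
    exact ⟨x, (hθC x).2 hx, by rw [← hu]; ring⟩
  · exact (hθC _).2 (hsqC x)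
  · set y := τ (p₀ x) with hy
    set d := y * x with hd
    have hx2 : x * x = (y * d) * (y * d) := by
      refine hsq_congr (y * d) x ?_
      rw [hd, show (y * (y * x))⁻¹ * x = x⁻¹ * (y * y)⁻¹ * x by group,
        mul_assoc, ← S.central (S.C.inv_mem (hsqC y)) x, inv_mul_cancel_left]
      exact S.C.inv_mem (hsqC y)
    have he : (y * d) * (y * d) = y * y * k y⁻¹ d * (d * d) := by simp only [k]; group
    show S.c (x * x) ^ 2 = S.c (τ 1 * τ 1) ^ 2 * (p₀ x * p₀ x) +
      S.c (dsel 1 * dsel 1) ^ 2 * (S.pD d * S.pD d) + w * (p₀ x * S.pD d)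
    rw [hx2, he, S.c_mul (S.C.mul_mem (hsqC y) (hkC _ _)) (hsqC d), S.c_mul (hsqC y) (hkC _ _),
      hglin, hflin d (hbD x)]
    have e := hw ⟨d, hbD x⟩ y⁻¹
    rw [hinv0, hτp] at e
    have hsw : S.c (k y⁻¹ d) = S.c (k d y⁻¹) := by rw [k_swap, S.C_inv (hkC _ _)]
    rw [hsw]
    linear_combination e + (S.c (τ 1 * τ 1) * p₀ x * S.c (k d y⁻¹) +
      S.c (τ 1 * τ 1) * p₀ x * (S.c (dsel 1 * dsel 1) * S.pD d) +
      S.c (k d y⁻¹) * (S.c (dsel 1 * dsel 1) * S.pD d)) * h2

end Ctx

end CfsgLib.InvChar.FixedLine
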