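import Mathlib
import Cfsg.Agent.Lib.InvChar.FixedLine.Forms
import Cfsg.Agent.Lib.Fusion.SLThreeCore
import Cfsg.Agent.Lib.Classical.SLOrder
import Cfsg.Agent.Lib.Chev.PSUThreeSylow

/-!
# The Sylow two-subgroups of `PSL₃(2ⁿ)` and `PSU₃(2ⁿ)` by their squaring maps
-/

set_option autoImplicit false
set_option linter.style.haveILetI false

namespace CfsgLib.InvChar.FixedLine

open CfsgLib.Fusion

/-- The unitriangular group has the split squaring map. -/
theorem squareMap_uni {K : Type*} [Field K] [Fintype K] (h2 : (2 : K) = 0) :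
    HasSquareMap ↥(SLUni.U K 3) (formSplit (K := K)) := by
  refine ⟨fun x => (x.1.1 0 1, x.1.1 1 2), fun x => x.1.1 0 2, fun x y => ?_, fun v => ?_,
    fun x hx y => ?_, fun x y hx hy => ?_, fun x hx h => ?_, fun w => ?_, fun x => ?_⟩
  · rw [SLThree.el_eq x, SLThree.el_eq y, SLThree.el_mul]; simp [SLThree.el]
  · exact ⟨SLThree.el v.1 v.2 0, by simp [SLThree.el]⟩
  · obtain ⟨e1, e2⟩ := Prod.mk.inj (show (x.1.1 0 1, x.1.1 1 2) = ((0 : K), (0 : K)) from hx)
    rw [SLThree.el_eq x, SLThree.el_eq y, SLThree.el_comm_iff, e1, e2]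
    ring
  · obtain ⟨e1, -⟩ := Prod.mk.inj (show (x.1.1 0 1, x.1.1 1 2) = ((0 : K), (0 : K)) from hx)
    show (x * y).1.1 0 2 = x.1.1 0 2 + y.1.1 0 2
    rw [SLThree.el_eq x, SLThree.el_eq y, SLThree.el_mul, e1]
    simp [SLThree.el]
  · obtain ⟨e1, e2⟩ := Prod.mk.inj (show (x.1.1 0 1, x.1.1 1 2) = ((0 : K), (0 : K)) from hx)
    rw [SLThree.el_eq x, e1, e2, show x.1.1 0 2 = 0 from h]
    refine Subtype.ext (Subtype.ext ?_)
    ext i j
    fin_cases i <;> fin_cases j <;> simp [SLThree.el]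
  · exact ⟨SLThree.el 0 0 w, by simp [SLThree.el], by simp [SLThree.el]⟩
  · rw [SLThree.el_eq x, SLThree.el_mul]
    constructor
    · simp only [SLThree.el]
      refine Prod.ext ?_ ?_
      · simp; linear_combination (x.1.1 0 1) * h2
      · simp; linear_combination (x.1.1 1 2) * h2
    · simp [SLThree.el, formSplit]
      linear_combination (x.1.1 0 2) * h2

/-- A Sylow two-subgroup of `PSL₃(q)` is unitriangular. -/
theorem exists_sylow_psl {K : Type*} [Field K] [Fintype K] {n : ℕ} (hn : 1 ≤ n)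
    (hK : Fintype.card K = 2 ^ n) :
    ∃ S : Sylow 2 (Matrix.ProjectiveSpecialLinearGroup (Fin 3) K),
      Nonempty (↥(SLUni.U K 3) ≃* ↥(S : Subgroup (Matrix.ProjectiveSpecialLinearGroup (Fin 3) K))) := by
  classical
  haveI : Fact (Nat.Prime 2) := ⟨Nat.prime_two⟩
  haveI : Nonempty (Fin 3) := ⟨0⟩
  let U := SLUni.U K 3
  have hcU : Nat.card ↥U = (2 ^ n) ^ 3 := by
    have hb : Function.Bijective fun p : K × K × K => SLThree.el p.1 p.2.1 p.2.2 := by
      refine ⟨fun p q e => ?_, fun m => ⟨(m.1.1 0 1, m.1.1 1 2, m.1.1 0 2), (SLThree.el_eq m).symm⟩⟩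
      obtain ⟨e1, e2, e3⟩ := SLThree.el_inj e
      exact Prod.ext e1 (Prod.ext e2 e3)
    rw [← Nat.card_eq_of_bijective _ hb, Nat.card_prod, Nat.card_prod, Nat.card_eq_fintype_card, hK]
    ring
  let π : Matrix.SpecialLinearGroup (Fin 3) K →* Matrix.ProjectiveSpecialLinearGroup (Fin 3) K :=
    QuotientGroup.mk' _
  have hinj : Function.Injective (π.comp U.subtype) := by
    rw [injective_iff_map_eq_one]
    intro m hm
    have hmc : (m : Matrix.SpecialLinearGroup (Fin 3) K) ∈ Subgroup.center _ :=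
      (QuotientGroup.eq_one_iff _).1 hm
    have h1 : orderOf (m : Matrix.SpecialLinearGroup (Fin 3) K) ∣ (2 ^ n) ^ 3 := by
      rw [Subgroup.orderOf_coe, ← hcU]; exact orderOf_dvd_natCard m
    have h2 : orderOf (m : Matrix.SpecialLinearGroup (Fin 3) K) ∣ 3 := by
      have := orderOf_dvd_natCard (⟨_, hmc⟩ : ↥(Subgroup.center (Matrix.SpecialLinearGroup (Fin 3) K)))
      rw [CfsgLib.Classical.card_center_sl, Fintype.card_fin, ← Subgroup.orderOf_coe] at this
      exact this.trans (Nat.gcd_dvd_left _ _)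
    exact Subtype.ext (orderOf_eq_one_iff.1 (Nat.eq_one_of_dvd_coprimes
      (Nat.Coprime.pow_left _ (Nat.Coprime.pow_left _ (by norm_num : Nat.Coprime 2 3))) h1 h2))
  have hR : Nat.card ↥(π.comp U.subtype).range = (2 ^ n) ^ 3 := by
    rw [← Nat.card_congr (MonoidHom.ofInjective hinj).toEquiv, hcU]
  have hp : IsPGroup 2 ↥(π.comp U.subtype).range :=
    IsPGroup.of_card (n := n * 3) (by rw [hR, pow_mul])
  have hidx : ¬ 2 ∣ (π.comp U.subtype).range.index := by
    intro hdvd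
    have h1 := (π.comp U.subtype).range.card_mul_index
    rw [hR] at h1
    have h3 := CfsgLib.Classical.card_psl_mul (F := K) (n := 3) (by norm_num)
    rw [hK, Fin.prod_univ_three, ← h1] at h3
    simp only [Fin.val_zero, Fin.val_one, Fin.val_two, pow_zero, pow_one] at h3
    set q := 2 ^ n with hq
    have e1 : q ^ 3 - q = q * (q ^ 2 - 1) := by rw [Nat.mul_sub, mul_one]; ring_nf
    have e2 : q ^ 3 - q ^ 2 = q ^ 2 * (q - 1) := by rw [Nat.mul_sub, mul_one]; ring_nf
    rw [e1, e2] at h3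
    have hq2 : 2 ≤ q := le_self_pow₀ (by norm_num) (by omega)
    have h4 : Nat.gcd 3 (q - 1) * (π.comp U.subtype).range.index = (q ^ 3 - 1) * (q ^ 2 - 1) := by
      refine Nat.eq_of_mul_eq_mul_left (show 0 < (q - 1) * q ^ 3 from Nat.mul_pos (by omega) (by positivity)) ?_
      linear_combination h3
    have hev : 2 ∣ q := dvd_pow_self 2 (by omega)
    have h5 : ∀ j, 1 ≤ j → ¬ 2 ∣ q ^ j - 1 := fun j hj h => by
      have h6 : 2 ∣ q ^ j := dvd_pow hev (by omega)
      have h7 : 1 ≤ q ^ j := Nat.one_le_pow _ _ (by omega)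
      omega
    rcases (Nat.Prime.dvd_mul Nat.prime_two).1 (h4 ▸ dvd_mul_of_dvd_right hdvd _) with h | h
    · exact h5 3 (by norm_num) h
    · exact h5 2 (by norm_num) h
  exact ⟨hp.toSylow hidx, ⟨(MonoidHom.ofInjective hinj).trans (MulEquiv.subgroupCongr rfl)⟩⟩

open CfsgLib.Chev.PSUSyl in
/-- A unitary Sylow group has an anisotropic squaring map. -/
theorem squareMap_unitary {E : Type*} [Field E] [Fintype E] (h : QField E) {K : Type*} [Field K]
    [Finite K] (hK : Nat.card K = 2 ^ h.n) :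
    ∃ d₀ : K, (¬ ∃ t, t * t + t = d₀) ∧ HasSquareMap h.UQ (formOf d₀) := by
  classical
  haveI : Fintype K := Fintype.ofFinite K
  let L : Subfield E :=
    { carrier := {c | c ^ h.q = c}
      mul_mem' := fun {a b} (ha : a ^ h.q = a) (hb : b ^ h.q = b) => by
        show (a * b) ^ h.q = a * b
        rw [mul_pow, ha, hb]
      one_mem' := one_pow _
      add_mem' := fun {a b} (ha : a ^ h.q = a) (hb : b ^ h.q = b) => by
        show (a + b) ^ h.q = a + b
        rw [h.add_pow', ha, hb]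
      zero_mem' := zero_pow (by positivity)
      neg_mem' := fun {a} (ha : a ^ h.q = a) => by
        show (-a) ^ h.q = -a
        rw [h.neg_eq, ha]
      inv_mem' := fun a (ha : a ^ h.q = a) => by
        show a⁻¹ ^ h.q = a⁻¹
        rw [inv_pow, ha] }
  haveI : Fintype ↥L := Fintype.ofFinite _
  let e : K ≃+* ↥L := FiniteField.ringEquivOfCardEq (by
    rw [← Nat.card_eq_fintype_card, ← Nat.card_eq_fintype_card, hK]
    exact h.card_fixed.symm)
  let ι : K →+* E := L.subtype.comp e.toRingHom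
  have hιfix : ∀ u, ι u ^ h.q = ι u := fun u => (e u).2
  have hιinj : Function.Injective ι := ι.injective
  have hιsur : ∀ c : E, c ^ h.q = c → ∃ u, ι u = c := fun c hc => ⟨e.symm ⟨c, hc⟩, by
    show ((e (e.symm ⟨c, hc⟩) : ↥L) : E) = c
    rw [e.apply_symm_apply]⟩
  let r : E → K := Function.invFun ι
  have hr : ∀ c : E, c ^ h.q = c → ι (r c) = c := fun c hc => Function.invFun_eq (hιsur c hc)
  -- an element of trace one
  obtain ⟨w₀, hw₀⟩ := QField.UQ.exists_not_fixed (h := h)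
  have hT : w₀ + w₀ ^ h.q ≠ 0 := fun e => hw₀ (by linear_combination e - w₀ * h.two)
  obtain ⟨ω, hω⟩ : ∃ ω, ω = w₀ / (w₀ + w₀ ^ h.q) := ⟨_, rfl⟩
  have htr : ω + ω ^ h.q = 1 := by
    have hTf : (w₀ + w₀ ^ h.q) ^ h.q = w₀ + w₀ ^ h.q := by rw [h.add_pow', h.pow_pow', add_comm]
    rw [hω, div_pow, hTf, ← add_div, div_self hT]
  set d₀ := r (ω * ω ^ h.q) with hd
  have hd' : ι d₀ = ω * ω ^ h.q := hr _ (h.norm_fixed ω)
  have hanis : ¬ ∃ t, t * t + t = d₀ := by
    rintro ⟨t, ht⟩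
    have e1 : (ω + ι t) * (ω + ι t + 1) = 0 := by
      have e2 := congrArg ι ht
      rw [map_add, map_mul, hd'] at e2
      linear_combination e2 + (ω * ι t + ω * ω ^ h.q) * h.two + ω * htr - (ω * (ω ^ h.q) - ω) * h.two
    have hfix : ω ^ h.q = ω := by
      rcases mul_eq_zero.1 e1 with e2 | e2
      · rw [show ω = ι t by linear_combination e2 - ι t * h.two, hιfix]
      · rw [show ω = ι t + 1 by linear_combination e2 - (ι t + 1) * h.two, h.add_pow', hιfix, one_pow]
    rw [hfix, h.self_add] at htr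
    exact zero_ne_one htr
  refine ⟨d₀, hanis, ?_⟩
  have hTrf : ∀ a : E, (a + a ^ h.q) ^ h.q = a + a ^ h.q := fun a => by
    rw [h.add_pow', h.pow_pow', add_comm]
  have hUf : ∀ a : E, (a + (a + a ^ h.q) * ω) ^ h.q = a + (a + a ^ h.q) * ω := fun a => by
    rw [h.add_pow', mul_pow, hTrf]
    linear_combination (a + a ^ h.q) * htr - a * h.two - (a + a ^ h.q) * ω * h.two
      + (a + a ^ h.q) * h.two
  let θ : h.UQ → K × K := fun x => (r (x.a + (x.a + x.a ^ h.q) * ω), r (x.a + x.a ^ h.q))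
  have hθ : ∀ x, ι (θ x).1 = x.a + (x.a + x.a ^ h.q) * ω ∧ ι (θ x).2 = x.a + x.a ^ h.q :=
    fun x => ⟨hr _ (hUf _), hr _ (hTrf _)⟩
  have hθ0 : ∀ x, θ x = 0 → x.a = 0 := fun x hx => by
    obtain ⟨e1, e2⟩ := hθ x
    rw [hx, Prod.snd_zero, map_zero] at e2
    rw [hx, Prod.fst_zero, map_zero, ← e2, zero_mul, add_zero] at e1
    exact e1.symm
  have hfixb : ∀ x : h.UQ, x.a = 0 → x.b ^ h.q = x.b := fun x hx => QField.UQ.b_fixed hx
  have hq0 : h.q ≠ 0 := by positivity
  refine ⟨θ, fun x => r x.b, fun x y => ?_, fun v => ?_, fun x hx y => ?_, fun x y hx hy => ?_,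
    fun x hx hb => ?_, fun w => ?_, fun x => ?_⟩
  · refine Prod.ext (hιinj ?_) (hιinj ?_)
    · rw [Prod.fst_add, map_add, (hθ _).1, (hθ x).1, (hθ y).1, QField.UQ.mul_a, h.add_pow']
      ring
    · rw [Prod.snd_add, map_add, (hθ _).2, (hθ x).2, (hθ y).2, QField.UQ.mul_a, h.add_pow']
      ring
  · obtain ⟨x, hx⟩ := QField.UQ.exists_mk (h := h) (ι v.1 + ι v.2 * ω)
    have hT' : x.a + x.a ^ h.q = ι v.2 := by
      rw [hx, h.add_pow', mul_pow, hιfix, hιfix]
      linear_combination ι v.2 * htr + ι v.1 * h.two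
    refine ⟨x, Prod.ext (hιinj ?_) (hιinj ?_)⟩
    · rw [(hθ x).1, hT', hx]
      linear_combination (ι v.2 * ω) * h.two
    · rw [(hθ x).2, hT']
  · exact (Subgroup.mem_center_iff.1 (QField.UQ.mem_center_iff.2 (hθ0 x hx)) y).symm
  · refine hιinj ?_
    have hxy : (x * y).a = 0 := by rw [QField.UQ.mul_a, hθ0 x hx, hθ0 y hy, add_zero]
    rw [map_add, hr _ (hfixb _ hxy), hr _ (hfixb _ (hθ0 x hx)), hr _ (hfixb _ (hθ0 y hy)),
      QField.UQ.mul_b, hθ0 x hx, zero_mul, add_zero]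
  · have e := hr _ (hfixb x (hθ0 x hx))
    rw [show r x.b = 0 from hb, map_zero] at e
    exact QField.UQ.ext (hθ0 x hx) e.symm
  · refine ⟨⟨0, ι w, by rw [hιfix, zero_mul, add_zero, h.self_add]⟩, ?_, ?_⟩
    · refine Prod.ext (hιinj ?_) (hιinj ?_)
      · rw [(hθ _).1, Prod.fst_zero, map_zero]; simp [zero_pow hq0]
      · rw [(hθ _).2, Prod.snd_zero, map_zero]; simp [zero_pow hq0]
    · exact hιinj (hr _ (hιfix w))
  · have ha : (x * x).a = 0 := by rw [QField.UQ.mul_a, h.self_add]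
    refine ⟨Prod.ext (hιinj ?_) (hιinj ?_), hιinj ?_⟩
    · rw [(hθ _).1, Prod.fst_zero, map_zero, ha]; simp [zero_pow hq0]
    · rw [(hθ _).2, Prod.snd_zero, map_zero, ha]; simp [zero_pow hq0]
    · rw [hr _ (hfixb _ ha), QField.UQ.mul_b]
      simp only [formOf, map_add, map_mul, (hθ x).1, (hθ x).2, hd']
      linear_combination (x.b - x.a * x.a - x.a * (x.a + x.a ^ h.q) * ω
          - (x.a + x.a ^ h.q) * (x.a + x.a ^ h.q) * ω) * h.two
        - (x.a + x.a ^ h.q) * (x.a + x.a ^ h.q) * ω * htr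

end CfsgLib.InvChar.FixedLine
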